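import Cfsg.Agent.H241.NHMonB
import Cfsg.Agent.S0033

/-!
# S4826, the Monster: the centralizer of an element `u` with `C(x) ∩ C(u) = ⟨x⟩⟨u⟩`, `x` of order 3, and an element
of order 4 acting faithfully on `⟨u⟩`
-/

set_option autoImplicit false

namespace Cfsg.Agent.H626.MRow.Loc

open Cfsg Subgroup
open Cfsg.Agent.H241.NH
open Cfsg.Agent.LThreeMB (XX mk exists_mk mk_eq_one mk_eq_mk)

universe v

theorem card_cent {G : Type v} [Group G] (x : G) :
    Nat.card ↥(centralizer ({x} : Set G)) = Nat.card (XX x) * orderOf x := by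
  rw [Subgroup.card_eq_card_quotient_mul_card_subgroup (LThreeMB.Zx x)]
  congr 1
  change Nat.card ↥(zpowers (LThreeMB.self x)) = _
  rw [Nat.card_zpowers, ← Subgroup.orderOf_coe]
  rfl

/-- a self-centralizing subgroup of order 3 is a Sylow subgroup -/
theorem not_nine_dvd {K : Type v} [Group K] [Finite K] {t : K} (ht : orderOf t = 3)
    (htC : ∀ g : K, g * t = t * g → g ∈ zpowers t) : ¬ 9 ∣ Nat.card K := by
  have : Fact (Nat.Prime 3) := ⟨Nat.prime_three⟩
  intro h9
  obtain ⟨P, hP⟩ := (IsPGroup.of_card (n := 1) (by rw [Nat.card_zpowers, ht, pow_one]) :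
    IsPGroup 3 (zpowers t)).exists_le_sylow
  have htP : t ∈ (P : Subgroup K) := hP (mem_zpowers t)
  have h9P : 9 ∣ Nat.card (P : Subgroup K) := by
    have := P.pow_dvd_card_of_pow_dvd_card (n := 2) h9
    simpa using this
  have hnt : Nontrivial (P : Subgroup K) := by
    rw [← Finite.one_lt_card_iff_nontrivial]
    exact lt_of_lt_of_le (by norm_num) (Nat.le_of_dvd Nat.card_pos h9P)
  have hcn := P.2.center_nontrivial
  obtain ⟨⟨⟨c, hcP⟩, hcc⟩, hc1⟩ := exists_ne (1 : center (P : Subgroup K))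
  have hcomm : ∀ g ∈ (P : Subgroup K), g * c = c * g := fun g hg =>
    congrArg Subtype.val (mem_center_iff.1 hcc ⟨g, hg⟩)
  have hcne : c ≠ 1 := fun h => hc1 (Subtype.ext (Subtype.ext h))
  have hct : c ∈ zpowers t := htC c (hcomm t htP).symm
  -- `t` is a power of `c`
  have hzz : zpowers c = zpowers t := by
    apply eq_of_le_of_card_ge
    · rw [zpowers_le]; exact hct
    · rw [Nat.card_zpowers, Nat.card_zpowers, ht]
      have h1 : orderOf c ∣ 3 := by
        rw [← ht]; exact orderOf_dvd_of_mem_zpowers hct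
      rcases (Nat.dvd_prime Nat.prime_three).1 h1 with h2 | h2
      · exact absurd (orderOf_eq_one_iff.1 h2) hcne
      · rw [h2]
  have hPle : (P : Subgroup K) ≤ zpowers t := by
    intro g hg
    apply htC
    have h1 : t ∈ zpowers c := by rw [hzz]; exact mem_zpowers t
    obtain ⟨i, rfl⟩ := h1
    exact ((show Commute g c from hcomm g hg).zpow_right i).eq
  have h3 := Nat.le_of_dvd Nat.card_pos (card_dvd_of_le hPle)
  rw [Nat.card_zpowers, ht] at h3
  have h4 := Nat.le_of_dvd Nat.card_pos h9P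
  omega

/-- **`9 ∤ |C(u)|`** -/
theorem not_nine_dvd_cent {G : Type v} [Group G] [Finite G] {x u : G} {q : ℕ} (hq : q.Prime) (hq3 : q ≠ 3)
    (hx : orderOf x = 3) (hu : orderOf u = q) (hs : Self x u) : ¬ 9 ∣ Nat.card ↥(centralizer ({u} : Set G)) := by
  obtain ⟨h1, h2⟩ := hs.quot Nat.prime_three hq hq3.symm hx hu
  rw [card_cent, hu]
  intro h9
  apply not_nine_dvd h1 h2
  have h3 : Nat.Coprime 9 q := by
    rw [show 9 = 3 ^ 2 from rfl]
    exact Nat.Coprime.pow_left 2 ((Nat.coprime_primes Nat.prime_three hq).2 hq3.symm)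
  exact h3.dvd_of_dvd_mul_right h9

/-- an element of order `r` of a group with a normal subgroup of order `r`, `r² ∤ |K|` -/
theorem mem_of_normal {K : Type v} [Group K] [Finite K] {r : ℕ} (hr : r.Prime) (hr2 : ¬ r ^ 2 ∣ Nat.card K)
    {X : Subgroup K} (hX : X.Normal) (hXc : Nat.card X = r) {y : K} (hy : y ^ r = 1) : y ∈ X := by
  rw [← QuotientGroup.eq_one_iff]
  by_contra hne
  have h1 : orderOf (y : K ⧸ X) = r := by
    have : Fact r.Prime := ⟨hr⟩
    apply orderOf_eq_prime _ hne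
    rw [← QuotientGroup.mk_pow, hy, QuotientGroup.mk_one]
  apply hr2
  rw [card_eq_card_quotient_mul_card_subgroup X, hXc, pow_two]
  apply Nat.mul_dvd_mul_right
  rw [← h1]
  exact orderOf_dvd_natCard _

/-- **Odd order**: a self-centralizing element of order 3 gives a nilpotent normal complement. -/
theorem exists_complement {K : Type v} [Group K] [Finite K] (hodd : Odd (Nat.card K)) {t : K} (ht : orderOf t = 3)
    (htC : ∀ g : K, g * t = t * g → g ∈ zpowers t) :
    ∃ N : Subgroup K, N.Normal ∧ Group.IsNilpotent N ∧ Nat.card N * 3 = Nat.card K := by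
  have hF3 : Fact (Nat.Prime 3) := ⟨Nat.prime_three⟩
  have h9 := not_nine_dvd ht htC
  have hT : Nat.card (zpowers t) = 3 := by rw [Nat.card_zpowers, ht]
  have hTp : IsPGroup 3 (zpowers t) := IsPGroup.of_card (n := 1) (by rw [hT, pow_one])
  have hidx : ¬ 3 ∣ (zpowers t).index := by
    intro h
    apply h9
    rw [← (zpowers t).card_mul_index, hT, show 9 = 3 * 3 from rfl]
    exact Nat.mul_dvd_mul_left 3 h
  let P : Sylow 3 K := hTp.toSylow hidx
  have hPc : (P : Subgroup K) = zpowers t := rfl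
  have ht3 : t ^ 3 = 1 := by rw [← ht]; exact pow_orderOf_eq_one t
  have hNC : normalizer ((P : Subgroup K) : Set K) ≤ centralizer ((P : Subgroup K) : Set K) := by
    intro n hn
    rw [hPc] at hn ⊢
    have h1 : n * t * n⁻¹ ∈ zpowers t := (mem_normalizer_iff.1 hn t).1 (mem_zpowers t)
    obtain ⟨i, hi⟩ := mem_zpowers_iff.1 h1
    have h2 : n ^ 2 * t * (n ^ 2)⁻¹ = t ^ (i * i) := by
      calc n ^ 2 * t * (n ^ 2)⁻¹ = n * (n * t * n⁻¹) * n⁻¹ := by rw [pow_two]; group
        _ = n * t ^ i * n⁻¹ := by rw [hi]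
        _ = (n * t * n⁻¹) ^ i := by rw [conj_zpow]
        _ = t ^ (i * i) := by rw [← hi, ← zpow_mul]
    have h3 : t ^ (i * i) = t := by
      have h4 : ¬ (3 : ℤ) ∣ i := by
        intro h
        have h5 : t ^ i = 1 := by
          apply orderOf_dvd_iff_zpow_eq_one.1
          rw [ht]; exact_mod_cast h
        rw [h5] at hi
        have h6 : t = 1 := by
          have h7 : t = n⁻¹ * (n * t * n⁻¹) * n := by group
          rw [h7, ← hi]; group
        rw [h6, orderOf_one] at ht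
        norm_num at ht
      have h5 : (3 : ℤ) ∣ i * i - 1 := by
        have h6 : i % 3 = 1 ∨ i % 3 = 2 := by omega
        rcases h6 with h6 | h6
        · have : i * i - 1 = (i - 1) * (i + 1) := by ring
          rw [this]
          exact Dvd.dvd.mul_right (by omega) _
        · have : i * i - 1 = (i - 1) * (i + 1) := by ring
          rw [this]
          exact Dvd.dvd.mul_left (by omega) _
      have h6 : t ^ (i * i - 1) = 1 := by
        apply orderOf_dvd_iff_zpow_eq_one.1
        rw [ht]; exact_mod_cast h5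
      calc t ^ (i * i) = t ^ (i * i - 1 + 1) := by congr 1; ring
        _ = t := by rw [zpow_add, h6, one_mul, zpow_one]
    rw [h3, mul_inv_eq_iff_eq_mul] at h2
    -- `n` is a power of `n²`
    have hno : Odd (orderOf n) := Odd.of_dvd_nat hodd (orderOf_dvd_natCard n)
    obtain ⟨m, hm⟩ := hno
    have h4 : (n ^ 2) ^ (m + 1) = n := by
      rw [← pow_mul, show 2 * (m + 1) = (2 * m + 1) + 1 from by ring, ← hm, pow_succ, pow_orderOf_eq_one, one_mul]
    have h5 : Commute n t := by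
      have h6 := (show Commute (n ^ 2) t from h2).pow_left (m + 1)
      rwa [h4] at h6
    rw [mem_centralizer_iff]
    rintro _ ⟨j, rfl⟩
    exact (h5.zpow_right j).eq.symm
  have hcomp := MonoidHom.ker_transferSylow_isComplement' P hNC
  set N := (MonoidHom.transferSylow P hNC).ker with hN
  have hNn : N.Normal := by rw [hN]; infer_instance
  have hNc : Nat.card N * 3 = Nat.card K := by
    have h1 := hcomp.card_mul_card
    rw [hPc, hT] at h1
    exact h1
  have hN3 : ¬ 3 ∣ Nat.card N := by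
    intro h
    apply h9
    rw [← hNc, show 9 = 3 * 3 from rfl]
    exact Nat.mul_dvd_mul_right h 3
  have hfpf : ∀ n ∈ N, n * t = t * n → n = 1 := by
    intro n hn hnt
    have h1 : orderOf n ∣ 3 := by
      rw [← ht]
      exact orderOf_dvd_of_mem_zpowers (htC n hnt)
    have h2 : orderOf n ∣ Nat.card N := by
      have := orderOf_dvd_natCard (⟨n, hn⟩ : N)
      rwa [Subgroup.orderOf_mk] at this
    rcases (Nat.dvd_prime Nat.prime_three).1 h1 with h3 | h3
    · exact orderOf_eq_one_iff.1 h3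
    · exact absurd (h3 ▸ h2) hN3
  refine ⟨N, hNn, ?_, hNc⟩
  by_cases hb : N = ⊥
  · rw [hb]
    infer_instance
  · obtain ⟨⟨n, hn⟩, hn1⟩ := (Subgroup.ne_bot_iff_exists_ne_one).1 hb
    have hn1' : n ≠ 1 := fun h => hn1 (Subtype.ext h)
    refine S0033.result (MulAut.conjNormal t : N ≃* N) ?_ 3 Nat.prime_three ?_
    · intro m hm
      have h1 : t * (m : K) * t⁻¹ = m := congrArg Subtype.val hm
      apply Subtype.ext
      apply hfpf m m.2
      calc (m : K) * t = t * m * t⁻¹ * t := by rw [h1]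
        _ = t * m := by group
    · apply orderOf_eq_prime
      · have h1 : (MulAut.conjNormal t : MulAut N) ^ 3 = MulAut.conjNormal (t ^ 3) := (map_pow _ _ _).symm
        rw [h1, ht3, map_one]
      · intro h
        have h0 : (MulAut.conjNormal t : MulAut N) ⟨n, hn⟩ = (1 : MulAut N) ⟨n, hn⟩ := by
          have h00 : (MulAut.conjNormal t : MulAut N) = 1 := h
          rw [h00]
        have h1 : t * n * t⁻¹ = n := congrArg Subtype.val h0
        apply hn1'
        apply hfpf n hn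
        calc n * t = t * n * t⁻¹ * t := by rw [h1]
          _ = t * n := by group

/-- the normal Sylow subgroup -/
theorem exists_normal {K : Type v} [Group K] [Finite K] (hodd : Odd (Nat.card K)) {t : K} (ht : orderOf t = 3)
    (htC : ∀ g : K, g * t = t * g → g ∈ zpowers t) {q : ℕ} (hq : q.Prime) (hq3 : q ≠ 3) (hq2 : ¬ q ^ 2 ∣ Nat.card K)
    (hd : q ∣ Nat.card K) : ∃ X : Subgroup K, X.Normal ∧ Nat.card X = q := by
  have hFq : Fact q.Prime := ⟨hq⟩
  obtain ⟨N, hN, hnil, hcN⟩ := exists_complement hodd ht htC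
  have hqN : q ∣ Nat.card N := by
    rw [← hcN] at hd
    rcases hq.dvd_mul.1 hd with h | h
    · exact h
    · exact absurd ((Nat.prime_dvd_prime_iff_eq hq Nat.prime_three).1 h) hq3
  obtain ⟨P⟩ : Nonempty (Sylow q N) := inferInstance
  have hPn : (P : Subgroup N).Normal := by
    have h4 : NormalizerCondition N := Group.normalizerCondition_of_isNilpotent
    exact Sylow.normal_of_normalizerCondition h4 P
  have hPc : (P : Subgroup N).Characteristic := P.characteristic_of_normal hPn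
  have hPK : ((P : Subgroup N).map N.subtype).Normal := ConjAct.normal_of_characteristic_of_normal
  refine ⟨_, hPK, ?_⟩
  rw [Subgroup.card_map_of_injective N.subtype_injective]
  obtain ⟨k, hk⟩ := IsPGroup.iff_card.1 P.2
  have h4 : k < 2 := by
    by_contra hk2
    refine hq2 ((Nat.pow_dvd_pow q (not_lt.1 hk2)).trans ?_)
    rw [← hk]
    exact (card_subgroup_dvd_card _).trans (card_subgroup_dvd_card _)
  have h5 : q ∣ Nat.card (P : Subgroup N) := P.dvd_card_of_dvd_card hqN
  rw [hk] at h5 ⊢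
  interval_cases k
  · exact absurd (Nat.dvd_one.1 (by simpa using h5)) hq.one_lt.ne'
  · exact pow_one q

/-- **`r ∤ |C(u)|`** for `3 ∤ r - 1` -/
theorem not_dvd_cent' {G : Type v} [Group G] [Finite G] {x u : G} {q : ℕ} (hq : q.Prime) (hq3 : q ≠ 3)
    (hx : orderOf x = 3) (hu : orderOf u = q) (hs : Self x u) (hodd : Odd (Nat.card ↥(centralizer ({u} : Set G))))
    {r : ℕ} (hr : r.Prime) (hr3 : r ≠ 3) (hrq : r ≠ q) (hr1 : ¬ 3 ∣ r - 1) (hr2 : ¬ r ^ 2 ∣ Nat.card G) :
    ¬ r ∣ Nat.card ↥(centralizer ({u} : Set G)) := by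
  intro hd
  obtain ⟨h1, h2⟩ := hs.quot Nat.prime_three hq hq3.symm hx hu
  have hcC := card_cent u
  have hcop : Nat.Coprime r q := (Nat.coprime_primes hr hq).2 hrq
  have hKG : Nat.card (XX u) ∣ Nat.card G :=
    (Subgroup.card_quotient_dvd_card _).trans (card_subgroup_dvd_card _)
  have hr2K : ¬ r ^ 2 ∣ Nat.card (XX u) := fun h => hr2 (h.trans hKG)
  have hoK : Odd (Nat.card (XX u)) := Odd.of_dvd_nat hodd (Subgroup.card_quotient_dvd_card _)
  have hrK : r ∣ Nat.card (XX u) := by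
    rw [hcC, hu] at hd
    exact hcop.dvd_of_dvd_mul_right hd
  obtain ⟨X, hXn, hXc⟩ := exists_normal hoK h1 h2 hr hr3 hr2K hrK
  have hFr : Fact r.Prime := ⟨hr⟩
  obtain ⟨n, hn⟩ := exists_prime_orderOf_dvd_card' (G := X) r (by rw [hXc])
  have h3 := comm_of_normal Nat.prime_three hr hr1 hXn hXc h1 n n.2
  have h4 := orderOf_dvd_of_mem_zpowers (h2 _ h3)
  rw [h1, Subgroup.orderOf_coe, hn] at h4
  exact hr3 ((Nat.prime_dvd_prime_iff_eq hr Nat.prime_three).1 h4)

/-- **`r ∤ |C(u)|`** -/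
theorem not_dvd_cent {G : Type v} [Group G] [Finite G] {x u s : G} {q : ℕ} (hq : q.Prime) (hq3 : q ≠ 3)
    (hx : orderOf x = 3) (hu : orderOf u = q) (hs : Self x u) (hodd : Odd (Nat.card ↥(centralizer ({u} : Set G))))
    (hsu : s * u * s⁻¹ ∈ zpowers u) (hs4 : s ^ 4 = 1)
    {r : ℕ} (hr : r.Prime) (hr3 : r ≠ 3) (hrq : r ≠ q) (hr4 : r % 4 = 3) (hr2 : ¬ r ^ 2 ∣ Nat.card G)
    (hrt : ¬ r ∣ Nat.card ↥(centralizer ({s * s} : Set G))) : ¬ r ∣ Nat.card ↥(centralizer ({u} : Set G)) := by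
  intro hd
  have hFr : Fact r.Prime := ⟨hr⟩
  obtain ⟨h1, h2⟩ := hs.quot Nat.prime_three hq hq3.symm hx hu
  have hcC := card_cent u
  have hcop : Nat.Coprime r q := (Nat.coprime_primes hr hq).2 hrq
  have hKG : Nat.card (XX u) ∣ Nat.card G :=
    (Subgroup.card_quotient_dvd_card _).trans (card_subgroup_dvd_card _)
  have hr2K : ¬ r ^ 2 ∣ Nat.card (XX u) := fun h => hr2 (h.trans hKG)
  have hrK : r ∣ Nat.card (XX u) := by
    rw [hcC, hu] at hd
    exact hcop.dvd_of_dvd_mul_right hd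
  have hoK : Odd (Nat.card (XX u)) := Odd.of_dvd_nat hodd (Subgroup.card_quotient_dvd_card _)
  obtain ⟨X, hXn, hXc⟩ := exists_normal hoK h1 h2 hr hr3 hr2K hrK
  -- an element of order `r` of `C(u)`
  obtain ⟨⟨g, hgC⟩, hg⟩ := exists_prime_orderOf_dvd_card' (G := ↥(centralizer ({u} : Set G))) r hd
  rw [Subgroup.orderOf_mk] at hg
  have hgu : g * u = u * g := mem_centralizer_singleton_iff.1 hgC
  have hgr : g ^ r = 1 := by rw [← hg]; exact pow_orderOf_eq_one g
  have hpow : ∀ {k : G} (hk : k * u = u * k), k ^ r = 1 → (mk u hk) ^ r = 1 := by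
    intro k hk hkr
    have h4 : k ^ r * u = u * k ^ r := ((show Commute k u from hk).pow_left r).eq
    have h5 : mk u hk ^ r = mk u h4 := rfl
    rw [h5, LThreeMB.mk_eq_one]
    exact ⟨0, by rw [zpow_zero, hkr]⟩
  have huq : u ^ q = 1 := by rw [← hu]; exact pow_orderOf_eq_one u
  have hui : ∀ i : ℤ, (u ^ i) ^ r = 1 → u ^ i = 1 := by
    intro i hi
    have h5 : (u ^ i) ^ q = 1 := by
      rw [← zpow_natCast, ← zpow_mul, mul_comm, zpow_mul, zpow_natCast, huq, one_zpow]
    have h6 : orderOf (u ^ i) ∣ Nat.gcd r q := Nat.dvd_gcd (orderOf_dvd_of_pow_eq_one hi) (orderOf_dvd_of_pow_eq_one h5)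
    rw [hcop.gcd_eq_one, Nat.dvd_one, orderOf_eq_one_iff] at h6
    exact h6
  have hgX : mk u hgu ∈ X := mem_of_normal hr hr2K hXn hXc (hpow hgu hgr)
  have hgne : mk u hgu ≠ 1 := by
    intro h
    obtain ⟨i, hi⟩ := (LThreeMB.mk_eq_one hgu).1 h
    have h4 := hui i (by rw [hi, hgr])
    rw [← hi, h4, orderOf_one] at hg
    exact hr.one_lt.ne hg
  have hXg : zpowers (mk u hgu) = X := by
    apply eq_of_le_of_card_ge
    · rw [zpowers_le]; exact hgX
    · rw [hXc, Nat.card_zpowers, orderOf_eq_prime (hpow hgu hgr) hgne]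
  -- `s g s⁻¹`
  have hsg : s * g * s⁻¹ * u = u * (s * g * s⁻¹) := by
    have h4 : zpowers (s * u * s⁻¹) = zpowers u := by
      apply eq_of_le_of_card_ge
      · rw [zpowers_le]; exact hsu
      · rw [Nat.card_zpowers, Nat.card_zpowers]
        have h5 := MulEquiv.orderOf_eq (MulAut.conj s) u
        rw [MulAut.conj_apply] at h5
        rw [h5]
    have h5 : u ∈ zpowers (s * u * s⁻¹) := by rw [h4]; exact mem_zpowers u
    obtain ⟨i, hi⟩ := mem_zpowers_iff.1 h5
    have h6 : Commute (s * g * s⁻¹) (s * u * s⁻¹) := by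
      show s * g * s⁻¹ * (s * u * s⁻¹) = s * u * s⁻¹ * (s * g * s⁻¹)
      calc s * g * s⁻¹ * (s * u * s⁻¹) = s * (g * u) * s⁻¹ := by group
        _ = s * (u * g) * s⁻¹ := by rw [hgu]
        _ = _ := by group
    have h7 := h6.zpow_right i
    rw [hi] at h7
    exact h7.eq
  have hsgr : (s * g * s⁻¹) ^ r = 1 := by rw [conj_pow, hgr, mul_one, mul_inv_cancel]
  have hsX : mk u hsg ∈ X := mem_of_normal hr hr2K hXn hXc (hpow hsg hsgr)
  rw [← hXg] at hsX
  obtain ⟨i, hi⟩ := mem_zpowers_iff.1 hsX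
  have hgi : g ^ i * u = u * g ^ i := ((show Commute g u from hgu).zpow_left i).eq
  have h5 : mk u hgu ^ i = mk u hgi := rfl
  rw [h5, mk_eq_mk hgi hsg] at hi
  obtain ⟨j, hj⟩ := hi
  have hj1 : u ^ j = 1 := by
    apply hui
    have h6 : Commute (g ^ i) (u ^ j) := ((show Commute g u from hgu).zpow_left i).zpow_right j
    have h7 : (g ^ i * u ^ j) ^ r = 1 := by rw [hj, hsgr]
    rw [h6.mul_pow] at h7
    have h8 : (g ^ i) ^ r = 1 := by
      rw [← zpow_natCast, ← zpow_mul, mul_comm, zpow_mul, zpow_natCast, hgr, one_zpow]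
    rwa [h8, one_mul] at h7
  rw [hj1, mul_one] at hj
  -- `s² g s⁻² = g ^ (i * i)`
  have hss : ∀ k : ℤ, s * g ^ k * s⁻¹ = g ^ (i * k) := by
    intro k
    rw [← conj_zpow, ← hj, ← zpow_mul]
  have hs2 : s * s * g * (s * s)⁻¹ = g ^ (i * i) := by
    calc s * s * g * (s * s)⁻¹ = s * (s * g * s⁻¹) * s⁻¹ := by group
      _ = g ^ (i * i) := by rw [← hj, hss]
  have hs4' : g = g ^ (i * (i * (i * i))) := by
    calc g = s ^ 4 * g * (s ^ 4)⁻¹ := by rw [hs4]; group
      _ = s * (s * (s * s * g * (s * s)⁻¹) * s⁻¹) * s⁻¹ := by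
        rw [show (4 : ℕ) = 2 * 2 from rfl, pow_mul, pow_two, pow_two]; group
      _ = g ^ (i * (i * (i * i))) := by rw [hs2, hss, hss]
  have hdv : (r : ℤ) ∣ i * (i * (i * i)) - 1 := by
    rw [← hg, orderOf_dvd_iff_zpow_eq_one, zpow_sub, zpow_one, ← hs4', mul_inv_cancel]
  have hz : ((i : ZMod r)) * ((i : ZMod r) * ((i : ZMod r) * (i : ZMod r))) = 1 := by
    have h6 := (ZMod.intCast_zmod_eq_zero_iff_dvd _ r).2 hdv
    push_cast at h6
    exact sub_eq_zero.1 h6
  have hz2 : (i : ZMod r) * (i : ZMod r) = 1 := by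
    have h6 : ((i : ZMod r) * i - 1) * ((i : ZMod r) * i + 1) = 0 := by
      linear_combination hz
    rcases mul_eq_zero.1 h6 with h7 | h7
    · exact sub_eq_zero.1 h7
    · exfalso
      have h8 : IsSquare (-1 : ZMod r) := ⟨(i : ZMod r), by linear_combination -h7⟩
      exact ZMod.exists_sq_eq_neg_one_iff.1 h8 hr4
  have hdv2 : (r : ℤ) ∣ i * i - 1 := by
    rw [← ZMod.intCast_zmod_eq_zero_iff_dvd]
    push_cast
    rw [hz2, sub_self]
  have hgg : g ^ (i * i) = g := by
    rw [← hg, orderOf_dvd_iff_zpow_eq_one, zpow_sub, zpow_one] at hdv2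
    exact mul_inv_eq_one.1 hdv2
  apply hrt
  have h9 : g ∈ centralizer ({s * s} : Set G) := by
    rw [mem_centralizer_singleton_iff]
    rw [hgg, mul_inv_eq_iff_eq_mul] at hs2
    exact hs2.symm
  have h10 := orderOf_dvd_natCard (⟨g, h9⟩ : ↥(centralizer ({s * s} : Set G)))
  rwa [Subgroup.orderOf_mk, hg] at h10

end Cfsg.Agent.H626.MRow.Loc
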