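import Cfsg.Agent.H709.PB.Guide
import Cfsg.Agent.H672.SC

/-!
# S4826: the counting criterion with a Sylow subgroup of prime order inverted by an involution

`BD.of_sylow_inverted` : `⟨g⟩` a Sylow `q`-subgroup of order `q`, `t` an involution inverting `g`, `C(g)` of odd order,
`p ^ k` divides `|G : C(t)|`, but not `|C(t)| * ((q - 1) * |C(g)|)`: `BD p q G`.
-/

set_option autoImplicit false

namespace Cfsg.Agent.H626.MRow.Sing

open Cfsg Subgroup

universe u

variable {G : Type u} [Group G] [Finite G]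

omit [Finite G] in
/-- the number of elements of `H` inverted by `t` divides the order of `H` -/
theorem card_inv_dvd {t : G} (ht : t * t = 1) (H : Subgroup G) (hH : Odd (Nat.card H))
    (hn : ∀ h ∈ H, t * h * t⁻¹ ∈ H) :
    Nat.card {w : G // w ∈ H ∧ t * w * t⁻¹ = w⁻¹} ∣ Nat.card H := by
  -- the orbit of `t` under conjugation by `H`
  let A : MulAction H G := MulAction.compHom G ((MulAut.conj : G →* MulAut G).comp H.subtype)
  have hsm : ∀ (h : H) (x : G), h • x = (h : G) * x * (h : G)⁻¹ := fun _ _ => rfl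
  have h1 : Nat.card (MulAction.orbit H t) ∣ Nat.card H := by
    rw [← Nat.card_congr (MulAction.orbitProdStabilizerEquivGroup H t), Nat.card_prod]
    exact Dvd.intro _ rfl
  refine (dvd_of_eq ?_).trans h1
  refine Nat.card_congr ⟨fun w => ⟨w.1 * t, ?_⟩, fun x => ⟨x.1 * t, ?_, ?_⟩, ?_, ?_⟩
  · obtain ⟨w, hw, hi⟩ := w
    have hod : Odd (orderOf w) := by
      refine Odd.of_dvd_nat hH ?_
      rw [← orderOf_mk w hw]
      exact orderOf_dvd_natCard _
    obtain ⟨j, hj⟩ := H672.SC.exists_two_mul hod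
    refine ⟨⟨w ^ j, pow_mem hw j⟩, ?_⟩
    show w ^ j * t * (w ^ j)⁻¹ = w * t
    exact (H672.SC.mul_eq_conj hi (pow_orderOf_eq_one w) hj).symm
  · obtain ⟨x, ⟨h, rfl⟩⟩ := x
    show (h : G) * t * (h : G)⁻¹ * t ∈ H
    have h2 : (h : G) * t * (h : G)⁻¹ * t = h * (t * (h : G)⁻¹ * t⁻¹) := by
      have : t⁻¹ = t := inv_eq_of_mul_eq_one_left ht
      rw [this]; group
    rw [h2]
    exact H.mul_mem h.2 (hn _ (H.inv_mem h.2))
  · obtain ⟨x, ⟨h, rfl⟩⟩ := x
    show t * ((h : G) * t * (h : G)⁻¹ * t) * t⁻¹ = ((h : G) * t * (h : G)⁻¹ * t)⁻¹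
    have : t⁻¹ = t := inv_eq_of_mul_eq_one_left ht
    calc t * ((h : G) * t * (h : G)⁻¹ * t) * t⁻¹ = t * (h * t * (h : G)⁻¹) := by group
      _ = ((h : G) * t⁻¹ * (h : G)⁻¹ * t⁻¹)⁻¹ := by group
      _ = _ := by rw [this]
  · rintro ⟨w, hw⟩
    exact Subtype.ext (by show w * t * t = w; rw [mul_assoc, ht, mul_one])
  · rintro ⟨w, hw⟩
    exact Subtype.ext (by show w * t * t = w; rw [mul_assoc, ht, mul_one])

section

variable {q : ℕ} [hq : Fact q.Prime] {g : G}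

/-- the `q`-elements of `C(g)` are in `⟨g⟩` -/
theorem mem_zpowers (h2 : ¬ q ^ 2 ∣ Nat.card G) (hg : orderOf g = q) {z : G} (hz : z * g = g * z)
    (hzq : ∃ k : ℕ, orderOf z = q ^ k) : z ∈ zpowers g := by
  have hidx : ∀ w : G, orderOf w = q → ¬ q ∣ (zpowers w).index := by
    intro w hw h1
    apply h2
    rw [← (zpowers w).card_mul_index, Nat.card_zpowers, hw, pow_two]
    exact Nat.mul_dvd_mul_left q h1
  have hp : IsPGroup q (zpowers g) := IsPGroup.of_card (n := 1) (by rw [Nat.card_zpowers, hg, pow_one])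
  obtain ⟨k, hk⟩ := hzq
  have hpz : IsPGroup q (zpowers z) := IsPGroup.of_card (n := k) (by rw [Nat.card_zpowers, hk])
  have hn : zpowers z ≤ normalizer (zpowers g : Set G) := by
    rw [zpowers_le, mem_normalizer_iff]
    intro w
    have hc : ∀ (i : ℤ), z * g ^ i * z⁻¹ = g ^ i := fun i => by
      have : Commute z (g ^ i) := (show Commute z g from hz).zpow_right i
      rw [this.eq, mul_inv_cancel_right]
    constructor
    · rintro ⟨i, rfl⟩
      exact ⟨i, (hc i).symm⟩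
    · rintro ⟨i, hi⟩
      refine ⟨i, ?_⟩
      have h3 : w = z⁻¹ * g ^ i * z := by
        have : (fun x : ℤ => g ^ x) i = z * w * z⁻¹ := hi
        have h4 : g ^ i = z * w * z⁻¹ := this
        rw [h4]; group
      have : Commute z (g ^ i) := (show Commute z g from hz).zpow_right i
      show g ^ i = w
      rw [h3, mul_assoc, ← this.eq, inv_mul_cancel_left]
  have h3 : IsPGroup q ↥(zpowers g ⊔ zpowers z) := hp.to_sup_of_normal_left' hpz hn
  obtain ⟨n, hn⟩ := h3.exists_card_eq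
  have hle : zpowers g ≤ zpowers g ⊔ zpowers z := le_sup_left
  have h4 : n ≤ 1 := by
    by_contra hcon
    apply h2
    refine (pow_dvd_pow q (show 2 ≤ n by omega)).trans ?_
    rw [← hn]
    exact card_subgroup_dvd_card _
  have h5 : zpowers g = zpowers g ⊔ zpowers z := by
    apply eq_of_le_of_card_ge hle
    rw [hn, Nat.card_zpowers, hg]
    calc q ^ n ≤ q ^ 1 := Nat.pow_le_pow_right hq.out.pos h4
      _ = q := pow_one q
  rw [h5]
  exact (le_sup_right : zpowers z ≤ zpowers g ⊔ zpowers z) (Subgroup.mem_zpowers z)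

/-- `R₀`: the elements of order prime to `q` of a set of elements of `C(g)` stable under `⟨g⟩` -/
theorem card_regular_mul (h2 : ¬ q ^ 2 ∣ Nat.card G) (hg : orderOf g = q) (S : G → Prop)
    (hS : ∀ w, S w → w * g = g * w) (hm : ∀ w z, S w → z ∈ zpowers g → S (z * w)) :
    q * Nat.card {w : G // S w ∧ ¬ q ∣ orderOf w} = Nat.card {w : G // S w} := by
  have e : q * Nat.card {w : G // S w ∧ ¬ q ∣ orderOf w} =
      Nat.card (zpowers g) * Nat.card {w : G // S w ∧ ¬ q ∣ orderOf w} := by rw [Nat.card_zpowers, hg]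
  rw [e, ← Nat.card_prod]
  refine Nat.card_congr (Equiv.ofBijective (fun x => ⟨(x.1 : G) * x.2.1, hm _ _ x.2.2.1 x.1.2⟩) ⟨?_, ?_⟩)
  · rintro ⟨⟨z, hz⟩, ⟨w, hw, hwq⟩⟩ ⟨⟨z', hz'⟩, ⟨w', hw', hwq'⟩⟩ h
    have h1 : z * w = z' * w' := congrArg Subtype.val h
    have hpp : ∀ {z w : G}, z ∈ zpowers g → S w → ¬ q ∣ orderOf w → IsPPart q (z * w) z := by
      intro z w hz hw hwq
      refine Blocks.PPart.isPPart_mul ?_ ?_ hwq
      · obtain ⟨i, rfl⟩ := hz
        exact (show Commute g w from (hS w hw).symm).zpow_left i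
      · have h3 : orderOf z ∣ q := by
          rw [← hg]
          exact orderOf_dvd_of_mem_zpowers hz
        rcases (Nat.dvd_prime hq.out).1 h3 with h4 | h4
        · exact ⟨0, by rw [h4, pow_zero]⟩
        · exact ⟨1, by rw [h4, pow_one]⟩
    have h3 := hpp hz hw hwq
    rw [h1] at h3
    have h4 := Blocks.PPart.isPPart_unique h3 (hpp hz' hw' hwq')
    subst h4
    have h5 := mul_left_cancel h1
    subst h5
    rfl
  · rintro ⟨w, hw⟩
    obtain ⟨z, hz⟩ := Blocks.PPart.exists_isPPart q w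
    obtain ⟨n, hn⟩ := Blocks.PPart.exists_pow_eq (G := G) q
    have hzw := hn w z hz
    obtain ⟨y, hzy, hc, hk, hy⟩ := hz
    have hzg : z * g = g * z := by
      rw [← hzw]
      exact ((show Commute w g from hS w hw).pow_left n).eq
    have hzm := mem_zpowers h2 hg hzg hk
    refine ⟨(⟨z, hzm⟩, ⟨y, ?_, hy⟩), Subtype.ext hzy⟩
    have h3 := hm w z⁻¹ hw (inv_mem hzm)
    have h4 : z⁻¹ * w = y := by rw [← hzy, inv_mul_cancel_left]
    rwa [h4] at h3

/-- an element of order `q` commuting with `g` generates `⟨g⟩` -/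
theorem zpowers_eq (h2 : ¬ q ^ 2 ∣ Nat.card G) (hg : orderOf g = q) {z : G} (hz : z * g = g * z)
    (hzq : orderOf z = q) : zpowers z = zpowers g := by
  apply eq_of_le_of_card_ge
  · rw [zpowers_le]
    exact mem_zpowers h2 hg hz ⟨1, by rw [hzq, pow_one]⟩
  · rw [Nat.card_zpowers, Nat.card_zpowers, hg, hzq]

omit [Finite G] hq in
theorem orderOf_cj (c : G) : orderOf (c * g * c⁻¹) = orderOf g := by
  have h := MulEquiv.orderOf_eq (MulAut.conj c) g
  rwa [MulAut.conj_apply] at h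

/-- the element of order `q` of `⟨w⟩` -/
theorem orderOf_pw {w : G} (hw : q ∣ orderOf w) : orderOf (w ^ (orderOf w / q)) = q := by
  have h0 : 0 < orderOf w := orderOf_pos w
  rw [orderOf_pow_of_dvd (Nat.div_pos (Nat.le_of_dvd h0 hw) hq.out.pos).ne' (Nat.div_dvd_of_dvd hw)]
  exact Nat.div_div_self hw h0.ne'

/-- if `w` commutes with `c g c⁻¹`, then `⟨c g c⁻¹⟩` is the subgroup of order `q` of `⟨w⟩` -/
theorem zpowers_pw (h2 : ¬ q ^ 2 ∣ Nat.card G) (hg : orderOf g = q) {w c : G} (hw : q ∣ orderOf w)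
    (hc : w * (c * g * c⁻¹) = c * g * c⁻¹ * w) : zpowers (w ^ (orderOf w / q)) = zpowers (c * g * c⁻¹) := by
  refine zpowers_eq h2 (by rw [orderOf_cj, hg]) ?_ (orderOf_pw hw)
  exact ((show Commute w (c * g * c⁻¹) from hc).pow_left _).eq

variable {t : G}

omit [Finite G] hq in
theorem inv_pow (hinv : t * g * t⁻¹ = g⁻¹) (n : ℕ) : t * g ^ n * t⁻¹ = (g ^ n)⁻¹ := by
  rw [← conj_pow, hinv, _root_.inv_pow]

omit [Finite G] hq in
theorem inv_mem_zpowers (hinv : t * g * t⁻¹ = g⁻¹) {z : G} (hz : z ∈ zpowers g) : t * z * t⁻¹ = z⁻¹ := by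
  obtain ⟨i, rfl⟩ := hz
  show t * g ^ i * t⁻¹ = (g ^ i)⁻¹
  rw [← conj_zpow, hinv, inv_zpow]

/-- `C(t)` is transitive on the subgroups of order `q` inverted by `t` -/
theorem exists_cj (h2 : ¬ q ^ 2 ∣ Nat.card G) (hg : orderOf g = q) (ht : t * t = 1) (hinv : t * g * t⁻¹ = g⁻¹)
    (hodd : Odd (Nat.card (centralizer ({g} : Set G)))) {z : G} (hz : orderOf z = q) (hzi : t * z * t⁻¹ = z⁻¹) :
    ∃ k : G, k * t = t * k ∧ zpowers z = zpowers (k * g * k⁻¹) := by
  have hidx : ∀ w : G, orderOf w = q → ¬ q ∣ (zpowers w).index := by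
    intro w hw h1
    apply h2
    rw [← (zpowers w).card_mul_index, Nat.card_zpowers, hw, pow_two]
    exact Nat.mul_dvd_mul_left q h1
  have hpg : ∀ w : G, orderOf w = q → IsPGroup q ↥(zpowers w) := fun w hw =>
    IsPGroup.of_card (n := 1) (by rw [Nat.card_zpowers, hw, pow_one])
  obtain ⟨h, hh⟩ := MulAction.exists_smul_eq G ((hpg g hg).toSylow (hidx g hg)) ((hpg z hz).toSylow (hidx z hz))
  have hh' : (zpowers g).map (MulAut.conj h).toMonoidHom = zpowers z := congrArg Sylow.toSubgroup hh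
  have hmap : (zpowers g).map (MulAut.conj h).toMonoidHom = zpowers (h * g * h⁻¹) := by
    rw [MonoidHom.map_zpowers]
    rfl
  rw [hmap] at hh'
  have hti : t⁻¹ = t := inv_eq_of_mul_eq_one_left ht
  -- `t' = h⁻¹ t h` inverts `g`
  have h3 : t * (h * g * h⁻¹) * t⁻¹ = (h * g * h⁻¹)⁻¹ :=
    inv_mem_zpowers hzi (by rw [← hh']; exact Subgroup.mem_zpowers _)
  set t' := h⁻¹ * t * h with ht'
  have h4 : t' * g * t'⁻¹ = g⁻¹ := by
    calc t' * g * t'⁻¹ = h⁻¹ * (t * (h * g * h⁻¹) * t⁻¹) * h := by rw [ht']; group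
      _ = h⁻¹ * (h * g * h⁻¹)⁻¹ * h := by rw [h3]
      _ = g⁻¹ := by group
  have ht't' : t' * t' = 1 := by
    calc t' * t' = h⁻¹ * (t * t) * h := by rw [ht']; group
      _ = 1 := by rw [ht]; group
  have ht'i : t'⁻¹ = t' := inv_eq_of_mul_eq_one_left ht't'
  -- `a = t' t` centralizes `g`
  set a := t' * t with ha
  have hag : a * g = g * a := by
    have h5 : a * g * a⁻¹ = g := by
      calc a * g * a⁻¹ = t' * (t * g * t⁻¹) * t'⁻¹ := by rw [ha]; group
        _ = (t' * g * t'⁻¹)⁻¹ := by rw [hinv]; group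
        _ = g := by rw [h4, inv_inv]
    rw [mul_inv_eq_iff_eq_mul] at h5
    exact h5
  have hai : t * a * t⁻¹ = a⁻¹ := by
    rw [ha, mul_inv_rev, hti, ht'i, ← mul_assoc, mul_assoc (t * t') t t, ht, mul_one]
  have haC : a ∈ centralizer ({g} : Set G) := mem_centralizer_singleton_iff.2 hag
  have hao : Odd (orderOf a) := by
    refine Odd.of_dvd_nat hodd ?_
    rw [← orderOf_mk a haC]
    exact orderOf_dvd_natCard _
  obtain ⟨j, hj⟩ := H672.SC.exists_two_mul hao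
  have h6 : a * t = a ^ j * t * (a ^ j)⁻¹ := H672.SC.mul_eq_conj hai (pow_orderOf_eq_one a) hj
  have h7 : a * t = t' := by rw [ha, mul_assoc, ht, mul_one]
  refine ⟨h * a ^ j, ?_, ?_⟩
  · have h8 : h * t' * h⁻¹ = t := by rw [ht']; group
    have h9 : h * a ^ j * t * (h * a ^ j)⁻¹ = t := by
      calc h * a ^ j * t * (h * a ^ j)⁻¹ = h * (a ^ j * t * (a ^ j)⁻¹) * h⁻¹ := by group
        _ = t := by rw [← h6, h7, h8]
    rw [mul_inv_eq_iff_eq_mul] at h9
    exact h9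
  · rw [← hh']
    congr 1
    have h10 : a ^ j * g = g * a ^ j := ((show Commute a g from hag).pow_left j).eq
    calc h * g * h⁻¹ = h * (g * a ^ j) * (a ^ j)⁻¹ * h⁻¹ := by group
      _ = h * (a ^ j * g) * (a ^ j)⁻¹ * h⁻¹ := by rw [h10]
      _ = _ := by group

/-- **The number of elements of order divisible by `q` inverted by `t`.** -/
theorem card_mul_eq (h2 : ¬ q ^ 2 ∣ Nat.card G) (hg : orderOf g = q) (ht : t * t = 1) (hinv : t * g * t⁻¹ = g⁻¹)
    (hodd : Odd (Nat.card (centralizer ({g} : Set G)))) :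
    Nat.card (centralizer ({t} : Set G)) * Nat.card {w : G // (w * g = g * w ∧ t * w * t⁻¹ = w⁻¹) ∧ q ∣ orderOf w} =
      Nat.card {w : G // t * w * t⁻¹ = w⁻¹ ∧ q ∣ orderOf w} *
        Nat.card {l : G // l * t = t * l ∧ l * g * l⁻¹ ∈ zpowers g} := by
  have hk : ∀ w : {w : G // t * w * t⁻¹ = w⁻¹ ∧ q ∣ orderOf w}, ∃ k : G, k * t = t * k ∧
      (w : G) * (k * g * k⁻¹) = k * g * k⁻¹ * w := by
    rintro ⟨w, hwi, hwq⟩
    obtain ⟨k, hk1, hk2⟩ := exists_cj h2 hg ht hinv hodd (orderOf_pw hwq) (inv_pow hwi _)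
    refine ⟨k, hk1, ?_⟩
    have h3 : k * g * k⁻¹ ∈ zpowers (w ^ (orderOf w / q)) := by rw [hk2]; exact Subgroup.mem_zpowers _
    obtain ⟨i, hi⟩ := h3
    have hi' : (w ^ (orderOf w / q)) ^ i = k * g * k⁻¹ := hi
    rw [← hi']
    exact (((Commute.refl w).pow_right _).zpow_right i).eq
  choose k hk1 hk2 using hk
  -- conjugating the inverted elements by elements of `C(t)`
  have hcj : ∀ c w : G, c * t = t * c → t * w * t⁻¹ = w⁻¹ → t * (c * w * c⁻¹) * t⁻¹ = (c * w * c⁻¹)⁻¹ := by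
    intro c w hc hw
    have h3 : c⁻¹ * t⁻¹ = t⁻¹ * c⁻¹ := by rw [← mul_inv_rev, ← mul_inv_rev, hc]
    calc t * (c * w * c⁻¹) * t⁻¹ = (t * c) * w * (c⁻¹ * t⁻¹) := by group
      _ = (c * t) * w * (t⁻¹ * c⁻¹) := by rw [hc, h3]
      _ = c * (t * w * t⁻¹) * c⁻¹ := by group
      _ = (c * w * c⁻¹)⁻¹ := by rw [hw]; group
  have hci : ∀ c : G, c * t = t * c → c⁻¹ * t = t * c⁻¹ := fun c hc =>
    ((show Commute c t from hc).inv_left).eq
  have horb : ∀ c w : G, orderOf (c * w * c⁻¹) = orderOf w := fun c w => orderOf_cj (g := w) c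
  have hpos : ∀ (w : {w : G // t * w * t⁻¹ = w⁻¹ ∧ q ∣ orderOf w}) (c : G),
      (w : G) * (c * g * c⁻¹) = c * g * c⁻¹ * w → (k w)⁻¹ * c * g * ((k w)⁻¹ * c)⁻¹ ∈ zpowers g := by
    intro w c hc
    have h3 := (zpowers_pw h2 hg w.2.2 hc).symm.trans (zpowers_pw h2 hg w.2.2 (hk2 w))
    have h4 : c * g * c⁻¹ ∈ zpowers (k w * g * (k w)⁻¹) := by rw [← h3]; exact Subgroup.mem_zpowers _
    obtain ⟨i, hi⟩ := h4
    have hi' : (k w * g * (k w)⁻¹) ^ i = c * g * c⁻¹ := hi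
    refine ⟨i, ?_⟩
    show g ^ i = _
    rw [conj_zpow] at hi'
    calc g ^ i = (k w)⁻¹ * (k w * g ^ i * (k w)⁻¹) * k w := by group
      _ = _ := by rw [hi']; group
  rw [← Nat.card_prod, ← Nat.card_prod]
  refine Nat.card_congr ⟨?_, ?_, ?_, ?_⟩
  · -- `(c, j) ↦ (c j c⁻¹, k⁻¹ c)`
    rintro ⟨⟨c, hc⟩, ⟨j, ⟨hj1, hj2⟩, hj3⟩⟩
    rw [mem_centralizer_singleton_iff] at hc
    let w : {w : G // t * w * t⁻¹ = w⁻¹ ∧ q ∣ orderOf w} := ⟨c * j * c⁻¹, hcj c j hc hj2, by rw [horb]; exact hj3⟩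
    refine ⟨w, ⟨(k w)⁻¹ * c, ?_, hpos w c ?_⟩⟩
    · rw [mul_assoc, hc, ← mul_assoc, hci _ (hk1 w), mul_assoc]
    · show c * j * c⁻¹ * (c * g * c⁻¹) = c * g * c⁻¹ * (c * j * c⁻¹)
      calc c * j * c⁻¹ * (c * g * c⁻¹) = c * (j * g) * c⁻¹ := by group
        _ = c * (g * j) * c⁻¹ := by rw [hj1]
        _ = _ := by group
  · -- `(w, l) ↦ (k l, (k l)⁻¹ w (k l))`
    rintro ⟨w, ⟨l, hl1, hl2⟩⟩
    have hkl : k w * l * t = t * (k w * l) := by rw [mul_assoc, hl1, ← mul_assoc, hk1 w, mul_assoc]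
    refine ⟨⟨k w * l, mem_centralizer_singleton_iff.2 hkl⟩, ⟨(k w * l)⁻¹ * w * (k w * l), ⟨?_, ?_⟩, ?_⟩⟩
    · -- `k⁻¹ w k` commutes with `g`, so with `l g l⁻¹`
      have h3 : (k w)⁻¹ * w * k w * g = g * ((k w)⁻¹ * w * k w) := by
        calc (k w)⁻¹ * w * k w * g = (k w)⁻¹ * (w * (k w * g * (k w)⁻¹)) * k w := by group
          _ = (k w)⁻¹ * (k w * g * (k w)⁻¹ * w) * k w := by rw [hk2]
          _ = _ := by group
      obtain ⟨i, hi⟩ := hl2
      have hi' : g ^ i = l * g * l⁻¹ := hi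
      have h4 : (k w)⁻¹ * w * k w * (l * g * l⁻¹) = l * g * l⁻¹ * ((k w)⁻¹ * w * k w) := by
        rw [← hi']
        exact ((show Commute ((k w)⁻¹ * w * k w) g from h3).zpow_right i).eq
      calc (k w * l)⁻¹ * w * (k w * l) * g = l⁻¹ * ((k w)⁻¹ * w * k w * (l * g * l⁻¹)) * l := by group
        _ = l⁻¹ * (l * g * l⁻¹ * ((k w)⁻¹ * w * k w)) * l := by rw [h4]
        _ = _ := by group
    · have h3 := hcj (k w * l)⁻¹ w (hci _ hkl) w.2.1
      rwa [inv_inv] at h3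
    · have h3 := horb (k w * l)⁻¹ w
      rw [inv_inv] at h3
      rw [h3]
      exact w.2.2
  · rintro ⟨⟨c, hc⟩, ⟨j, ⟨hj1, hj2⟩, hj3⟩⟩
    refine Prod.ext (Subtype.ext ?_) (Subtype.ext ?_)
    · show k _ * ((k _)⁻¹ * c) = c
      rw [mul_inv_cancel_left]
    · show (k _ * ((k _)⁻¹ * c))⁻¹ * (c * j * c⁻¹) * (k _ * ((k _)⁻¹ * c)) = j
      rw [mul_inv_cancel_left]
      group
  · rintro ⟨w, ⟨l, hl1, hl2⟩⟩
    have e : ∀ (w' : {w : G // t * w * t⁻¹ = w⁻¹ ∧ q ∣ orderOf w}) (h : w' = w) (x : G)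
        (hx : x = k w * l) (hx1 : (k w')⁻¹ * x * t = t * ((k w')⁻¹ * x) ∧
          (k w')⁻¹ * x * g * ((k w')⁻¹ * x)⁻¹ ∈ zpowers g),
        ((w', ⟨(k w')⁻¹ * x, hx1⟩) : {w : G // t * w * t⁻¹ = w⁻¹ ∧ q ∣ orderOf w} ×
          {l : G // l * t = t * l ∧ l * g * l⁻¹ ∈ zpowers g}) = (w, ⟨l, hl1, hl2⟩) := by
      rintro _ rfl x rfl hx1
      refine Prod.ext rfl (Subtype.ext ?_)
      exact inv_mul_cancel_left _ _
    refine e _ (Subtype.ext ?_) _ rfl _
    show k w * l * ((k w * l)⁻¹ * w * (k w * l)) * (k w * l)⁻¹ = w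
    group

/-- the pairs -/
theorem card_pairs (h2 : ¬ q ^ 2 ∣ Nat.card G) (hg : orderOf g = q) (ht : t * t = 1) (hinv : t * g * t⁻¹ = g⁻¹)
    (hodd : Odd (Nat.card (centralizer ({g} : Set G)))) :
    Nat.card {b : G // IsConj t b ∧ q ∣ orderOf (b * t)} = Nat.card {w : G // t * w * t⁻¹ = w⁻¹ ∧ q ∣ orderOf w} := by
  have hti : t⁻¹ = t := inv_eq_of_mul_eq_one_left ht
  refine Nat.card_congr ⟨fun b => ⟨b.1 * t, ?_, b.2.2⟩, fun w => ⟨w.1 * t, ?_, ?_⟩, ?_, ?_⟩
  · obtain ⟨b, hb, -⟩ := b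
    obtain ⟨c, rfl⟩ := isConj_iff.1 hb
    show t * (c * t * c⁻¹ * t) * t⁻¹ = (c * t * c⁻¹ * t)⁻¹
    calc t * (c * t * c⁻¹ * t) * t⁻¹ = t * (c * t * c⁻¹) := by group
      _ = (c * t⁻¹ * c⁻¹ * t⁻¹)⁻¹ := by group
      _ = _ := by rw [hti]
  · obtain ⟨w, hwi, hwq⟩ := w
    show IsConj t (w * t)
    -- `w` has odd order
    obtain ⟨c, hc1, hc2⟩ := exists_cj h2 hg ht hinv hodd (orderOf_pw hwq) (inv_pow hwi _)
    have hcw : w * (c * g * c⁻¹) = c * g * c⁻¹ * w := by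
      have h3 : c * g * c⁻¹ ∈ zpowers (w ^ (orderOf w / q)) := by rw [hc2]; exact Subgroup.mem_zpowers _
      obtain ⟨i, hi⟩ := h3
      have hi' : (w ^ (orderOf w / q)) ^ i = c * g * c⁻¹ := hi
      rw [← hi']
      exact (((Commute.refl w).pow_right _).zpow_right i).eq
    have hod : Odd (orderOf w) := by
      have h3 := orderOf_cj (g := w) c⁻¹
      rw [inv_inv] at h3
      rw [← h3]
      have h4 : c⁻¹ * w * c ∈ centralizer ({g} : Set G) := by
        rw [mem_centralizer_singleton_iff]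
        calc c⁻¹ * w * c * g = c⁻¹ * (w * (c * g * c⁻¹)) * c := by group
          _ = c⁻¹ * (c * g * c⁻¹ * w) * c := by rw [hcw]
          _ = _ := by group
      refine Odd.of_dvd_nat hodd ?_
      rw [← orderOf_mk _ h4]
      exact orderOf_dvd_natCard _
    obtain ⟨j, hj⟩ := H672.SC.exists_two_mul hod
    rw [isConj_iff]
    exact ⟨w ^ j, (H672.SC.mul_eq_conj hwi (pow_orderOf_eq_one w) hj).symm⟩
  · show q ∣ orderOf (w.1 * t * t)
    rw [mul_assoc, ht, mul_one]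
    exact w.2.2
  · rintro ⟨b, hb⟩
    exact Subtype.ext (by show b * t * t = b; rw [mul_assoc, ht, mul_one])
  · rintro ⟨w, hw⟩
    exact Subtype.ext (by show w * t * t = w; rw [mul_assoc, ht, mul_one])

omit hq in
theorem card_split (A B : G → Prop) :
    Nat.card {w : G // A w ∧ ¬ B w} + Nat.card {w : G // A w ∧ B w} = Nat.card {w : G // A w} := by
  classical
  have := Fintype.ofFinite G
  rw [Nat.card_eq_fintype_card, Nat.card_eq_fintype_card, Nat.card_eq_fintype_card,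
    Fintype.card_subtype, Fintype.card_subtype, Fintype.card_subtype, add_comm,
    ← Finset.filter_filter A B, ← Finset.filter_filter A fun w => ¬ B w]
  exact Finset.card_filter_add_card_filter_not B

/-- the number of pairs divides -/
theorem mul_card_dvd (h2 : ¬ q ^ 2 ∣ Nat.card G) (hg : orderOf g = q) (ht : t * t = 1) (hinv : t * g * t⁻¹ = g⁻¹)
    (hodd : Odd (Nat.card (centralizer ({g} : Set G)))) :
    q * Nat.card {b : G // IsConj t b ∧ q ∣ orderOf (b * t)} ∣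
      Nat.card (centralizer ({t} : Set G)) * ((q - 1) * Nat.card (centralizer ({g} : Set G))) := by
  rw [card_pairs h2 hg ht hinv hodd]
  have h3 := card_mul_eq h2 hg ht hinv hodd
  set J := Nat.card {w : G // (w * g = g * w ∧ t * w * t⁻¹ = w⁻¹) ∧ q ∣ orderOf w} with hJ
  set J' := Nat.card {w : G // w * g = g * w ∧ t * w * t⁻¹ = w⁻¹} with hJ'
  have h4 : q * Nat.card {w : G // (w * g = g * w ∧ t * w * t⁻¹ = w⁻¹) ∧ ¬ q ∣ orderOf w} = J' := by
    refine card_regular_mul h2 hg (fun w => w * g = g * w ∧ t * w * t⁻¹ = w⁻¹) (fun w h => h.1) ?_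
    rintro w z ⟨hw1, hw2⟩ hz
    obtain ⟨i, rfl⟩ := id hz
    have hgi : Commute (g ^ i) w := (show Commute g w from hw1.symm).zpow_left i
    refine ⟨?_, ?_⟩
    · show g ^ i * w * g = g * (g ^ i * w)
      rw [mul_assoc, hw1, ← mul_assoc, ← mul_assoc, ((Commute.refl g).zpow_left i).eq]
    · show t * (g ^ i * w) * t⁻¹ = (g ^ i * w)⁻¹
      have h5 : t * g ^ i * t⁻¹ = (g ^ i)⁻¹ := inv_mem_zpowers hinv hz
      calc t * (g ^ i * w) * t⁻¹ = (t * g ^ i * t⁻¹) * (t * w * t⁻¹) := by group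
        _ = (w * g ^ i)⁻¹ := by rw [h5, hw2, mul_inv_rev]
        _ = (g ^ i * w)⁻¹ := by rw [hgi.eq]
  have h5 : Nat.card {w : G // (w * g = g * w ∧ t * w * t⁻¹ = w⁻¹) ∧ ¬ q ∣ orderOf w} + J = J' :=
    card_split (fun w : G => w * g = g * w ∧ t * w * t⁻¹ = w⁻¹) fun w => q ∣ orderOf w
  set R := Nat.card {w : G // (w * g = g * w ∧ t * w * t⁻¹ = w⁻¹) ∧ ¬ q ∣ orderOf w} with hR
  have h6 : q * J = (q - 1) * J' := by
    obtain ⟨m, hm⟩ := Nat.exists_eq_succ_of_ne_zero hq.out.ne_zero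
    have h7 : q - 1 = m := by omega
    rw [h7]
    have h8 : q * J = q * J' - J' := by
      rw [← h5, Nat.mul_add, h4, ← h5]
      omega
    rw [h8, hm, Nat.succ_mul]
    omega
  have h7 : J' ∣ Nat.card (centralizer ({g} : Set G)) := by
    refine (dvd_of_eq ?_).trans (card_inv_dvd ht (centralizer ({g} : Set G)) hodd ?_)
    · rw [hJ']
      refine Nat.card_congr (Equiv.subtypeEquivRight fun w => ?_)
      rw [mem_centralizer_singleton_iff]
    · intro h hh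
      rw [mem_centralizer_singleton_iff] at hh ⊢
      have h8 : t⁻¹ * g * t = g⁻¹ := by
        have hti : t⁻¹ = t := inv_eq_of_mul_eq_one_left ht
        rw [hti] at hinv ⊢
        exact hinv
      calc t * h * t⁻¹ * g = t * (h * (t⁻¹ * g * t)) * t⁻¹ := by group
        _ = t * (h * g⁻¹) * t⁻¹ := by rw [h8]
        _ = t * (g⁻¹ * h) * t⁻¹ := by rw [((show Commute h g from hh).inv_right).eq]
        _ = t * ((t⁻¹ * g * t) * h) * t⁻¹ := by rw [h8]
        _ = _ := by group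
  calc q * Nat.card {w : G // t * w * t⁻¹ = w⁻¹ ∧ q ∣ orderOf w} ∣
      q * (Nat.card {w : G // t * w * t⁻¹ = w⁻¹ ∧ q ∣ orderOf w} *
        Nat.card {l : G // l * t = t * l ∧ l * g * l⁻¹ ∈ zpowers g}) :=
        Nat.mul_dvd_mul_left q (Dvd.intro _ rfl)
    _ = Nat.card (centralizer ({t} : Set G)) * ((q - 1) * J') := by rw [← h3, ← h6]; ring
    _ ∣ _ := Nat.mul_dvd_mul_left _ (Nat.mul_dvd_mul_left _ h7)

/-- **The criterion.** -/
theorem BD.of_sylow_inverted {p : ℕ} [hp : Fact p.Prime] (hqp : q ≠ p) (h2 : ¬ q ^ 2 ∣ Nat.card G)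
    (hg : orderOf g = q) (ht : t * t = 1) (hinv : t * g * t⁻¹ = g⁻¹)
    (hodd : Odd (Nat.card (centralizer ({g} : Set G)))) {k : ℕ}
    (hk : p ^ k ∣ (centralizer ({t} : Set G)).index)
    (h : ¬ p ^ k ∣ Nat.card (centralizer ({t} : Set G)) * ((q - 1) * Nat.card (centralizer ({g} : Set G)))) :
    Cfsg.Agent.H133.PB.BD p q G := by
  refine H709.PB.BD.of_singular_count hqp t t hk fun hd => h ?_
  exact (hd.trans (Dvd.intro_left _ rfl)).trans (mul_card_dvd h2 hg ht hinv hodd)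

end

end Cfsg.Agent.H626.MRow.Sing
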