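import Cfsg.Agent.H626.MRow.Lift
import Cfsg.Agent.H626.MRow.Loc
import Cfsg.Agent.H626.MRow.Sing
import Cfsg.Agent.H199.NSmMon
import Cfsg.Agent.S5535

/-!
# S4826, the Monster, `p = 2, 3, 5, 17, 19, 31`: the elements of order 29
-/

set_option autoImplicit false
set_option maxRecDepth 100000

namespace Cfsg.Agent.H626.MRow.TwentyNine

open Cfsg Cfsg.Agent.MonsterX Cfsg.Agent.MonsterX.Model Cfsg.Agent.MonsterX.InstData Cfsg.Agent.MonsterX.MainPack
open Cfsg.Agent.MonsterX.MainBasic Cfsg.Agent.MonsterN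
open Cfsg.Agent.BpSpor.MBigModel
open Cfsg.Agent.H241.NH
open Subgroup (centralizer zpowers mem_centralizer_singleton_iff)

theorem Self.map {G H : Type*} [Group G] [Group H] (f : G ≃* H) {x u : G} (h : Self x u) : Self (f x) (f u) := by
  refine ⟨by rw [← map_mul, ← map_mul, h.1], fun g hg1 hg2 => ?_⟩
  obtain ⟨i, j, hij⟩ := h.2 (f.symm g) (f.injective (by rw [map_mul, map_mul, f.apply_symm_apply, hg1]))
    (f.injective (by rw [map_mul, map_mul, f.apply_symm_apply, hg2]))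
  refine ⟨i, j, ?_⟩
  have h1 := congrArg f hij
  rwa [f.apply_symm_apply, map_mul, map_zpow, map_zpow] at h1

theorem exists_data : ∃ x u s : MG, orderOf x = 3 ∧ orderOf u = 29 ∧ s ^ 4 = 1 ∧ s * u * s⁻¹ = u ^ 12 ∧ Self x u := by
  obtain ⟨X, N, hX, hN, ⟨hnorm, ⟨e⟩⟩, -⟩ := Cfsg.Agent.S5535.result
  subst hN
  obtain ⟨f⟩ := Cfsg.Agent.MonsterP.Equiv.equiv
  obtain ⟨a, w, ha, hw, hw4, hC⟩ := Lift.exists_fi
  obtain ⟨x, u, s, hx, hu, hs4, hsu, hself⟩ := Lift.exists_lift hX
    (π := e.toMonoidHom.comp (QuotientGroup.mk' _)) (e.surjective.comp (QuotientGroup.mk'_surjective _))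
    (fun n hn => by
      have h1 : e (QuotientGroup.mk' _ n) = 1 := hn
      rw [map_eq_one_iff e e.injective] at h1
      have h2 := (QuotientGroup.eq_one_iff n).1 h1
      exact Subgroup.mem_subgroupOf.1 h2) ha hw hw4 hC
  refine ⟨f x, f u, f s, ?_, ?_, ?_, ?_, Self.map f hself⟩
  · rw [MulEquiv.orderOf_eq, hx]
  · rw [MulEquiv.orderOf_eq, hu]
  · rw [← map_pow, hs4, map_one]
  · rw [← map_inv, ← map_mul, ← map_mul, hsu, map_pow]

theorem odd_cent {u : MG} (hu : orderOf u = 29) : Odd (Nat.card (centralizer ({u} : Set MG))) := by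
  have := finite
  rw [← Nat.not_even_iff_odd, even_iff_two_dvd]
  intro h
  have : Fact (Nat.Prime 2) := ⟨Nat.prime_two⟩
  obtain ⟨⟨v, hvC⟩, hv⟩ := exists_prime_orderOf_dvd_card' (G := ↥(centralizer ({u} : Set MG))) 2 h
  rw [Subgroup.orderOf_mk] at hv
  have hvu : u ∈ centralizer ({v} : Set MG) := by
    rw [mem_centralizer_singleton_iff]
    exact (mem_centralizer_singleton_iff.1 hvC).symm
  have h1 := orderOf_dvd_natCard (⟨u, hvu⟩ : ↥(centralizer ({v} : Set MG)))
  rw [Subgroup.orderOf_mk, hu] at h1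
  rcases cls hv with ⟨g, hg⟩ | h2
  · rw [BpSpor.card_cent_of_conj hg, card_cent_z] at h1
    norm_num at h1
  · rw [card_cent_t h2] at h1
    norm_num at h1

/-- an involution inverting an element of order 29 is conjugate to `z` -/
theorem card_cent_inv {u t : MG} (hu : orderOf u = 29) (ht : t * t = 1) (hinv : t * u * t⁻¹ = u⁻¹) :
    Nat.card (centralizer ({t} : Set MG)) = 2 ^ 25 * 4157776806543360000 := by
  have : Fact (Nat.Prime 2) := ⟨Nat.prime_two⟩
  have ht1 : t ≠ 1 := by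
    rintro rfl
    rw [one_mul, inv_one, mul_one] at hinv
    have h1 : u ^ 2 = 1 := by
      rw [pow_two]
      nth_rewrite 2 [hinv]
      exact mul_inv_cancel u
    have h2 := orderOf_dvd_of_pow_eq_one h1
    rw [hu] at h2
    norm_num at h2
  have hto : orderOf t = 2 := orderOf_eq_prime (by rw [pow_two, ht]) ht1
  rcases cls hto with ⟨g, hg⟩ | h2
  · rw [BpSpor.card_cent_of_conj hg, card_cent_z]
  · exfalso
    have A := LitFin.all
    obtain ⟨c, hc⟩ := isConj_iff.1 (show IsConj (tG A.hG A.hR) t from h2)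
    have h6 := MonsterX.MainPack.six A.hG A.hR A.hL A.hO A.hT
      Cfsg.Agent.MonsterX.InstanceFinal.mExtra.order_le (c⁻¹ * u * c)
    have h7 : t * (u * t * u⁻¹) =
        c * (tG A.hG A.hR * ((c⁻¹ * u * c) * tG A.hG A.hR * (c⁻¹ * u * c)⁻¹)) * c⁻¹ := by
      rw [← hc]; group
    have hti : t⁻¹ = t := inv_eq_of_mul_eq_one_left ht
    have h8 : t * (u * t * u⁻¹) = (u ^ 2)⁻¹ := by
      calc t * (u * t * u⁻¹) = (t * u * t⁻¹) * (t * t) * u⁻¹ := by group
        _ = (u ^ 2)⁻¹ := by rw [hinv, ht]; group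
    have h9 : orderOf (t * (u * t * u⁻¹)) ≤ 6 := by
      rw [h7]
      exact (MulEquiv.orderOf_eq (MulAut.conj c) _).trans_le h6
    rw [h8, orderOf_inv, orderOf_pow, hu] at h9
    norm_num at h9

/-- **`p = 3, 5, 17, 19, 31`** -/
theorem bd {p : ℕ} (hp : p = 3 ∨ p = 5 ∨ p = 17 ∨ p = 19 ∨ p = 31) : H133.PB.BD p 29 MG := by
  have := finite
  obtain ⟨x, u, s, hx, hu, hs4, hsu, hself⟩ := exists_data
  have hu29 : u ^ 29 = 1 := by rw [← hu]; exact pow_orderOf_eq_one u
  have h29 : (29 : ℕ).Prime := by norm_num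
  have ht : s * s * (s * s) = 1 := by
    have : s ^ 4 = s * s * (s * s) := by rw [show (4 : ℕ) = 2 * 2 from rfl, pow_mul, pow_two, pow_two]
    rw [← this, hs4]
  have hinv : s * s * u * (s * s)⁻¹ = u⁻¹ := by
    calc s * s * u * (s * s)⁻¹ = s * (s * u * s⁻¹) * s⁻¹ := by group
      _ = s * u ^ 12 * s⁻¹ := by rw [hsu]
      _ = (s * u * s⁻¹) ^ 12 := by rw [conj_pow]
      _ = u ^ 144 := by rw [hsu, ← pow_mul]
      _ = (u ^ 29) ^ 5 * u⁻¹ := by group
      _ = u⁻¹ := by rw [hu29]; group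
  have hct := card_cent_inv hu ht hinv
  have hidx : (centralizer ({s * s} : Set MG)).index =
      3 ^ 11 * 5 ^ 5 * 7 ^ 4 * 11 * 13 ^ 2 * 17 * 19 * 29 * 31 * 41 * 47 * 59 * 71 := by
    have h1 := (centralizer ({s * s} : Set MG)).card_mul_index
    rw [hct, card_M] at h1
    exact Nat.eq_of_mul_eq_mul_left (by norm_num : 0 < 2 ^ 25 * 4157776806543360000) (h1.trans (by norm_num))
  have hodd := odd_cent hu
  have hsq : ∀ q : ℕ, q = 17 ∨ q = 19 ∨ q = 29 ∨ q = 31 → ¬ q ^ 2 ∣ Nat.card MG := by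
    rw [card_M]
    rintro q (rfl | rfl | rfl | rfl) <;> norm_num
  -- the order of `C(u)`
  have h9 : ¬ 9 ∣ Nat.card (centralizer ({u} : Set MG)) := Loc.not_nine_dvd_cent h29 (by norm_num) hx hu hself
  have h5 : ¬ 5 ∣ Nat.card (centralizer ({u} : Set MG)) := by
    intro h
    have : Fact (Nat.Prime 5) := ⟨by norm_num⟩
    obtain ⟨⟨y, hyC⟩, hy⟩ := exists_prime_orderOf_dvd_card' (G := ↥(centralizer ({u} : Set MG))) 5 h
    rw [Subgroup.orderOf_mk] at hy
    refine H199.NSmMon.five_not_dvd (r := 29) (by tauto) hy ?_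
    have hyu : u ∈ centralizer ({y} : Set MG) := by
      rw [mem_centralizer_singleton_iff]
      exact (mem_centralizer_singleton_iff.1 hyC).symm
    have h1 := orderOf_dvd_natCard (⟨u, hyu⟩ : ↥(centralizer ({y} : Set MG)))
    rwa [Subgroup.orderOf_mk, hu] at h1
  have h17 : ¬ 17 ∣ Nat.card (centralizer ({u} : Set MG)) :=
    Loc.not_dvd_cent' h29 (by norm_num) hx hu hself hodd (by norm_num) (by norm_num) (by norm_num) (by norm_num)
      (hsq 17 (by tauto))
  have hr : ∀ r : ℕ, r = 19 ∨ r = 31 → ¬ r ∣ Nat.card (centralizer ({u} : Set MG)) := by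
    intro r hr
    refine Loc.not_dvd_cent h29 (by norm_num) hx hu hself hodd ?_ hs4 ?_ ?_ ?_ ?_ (hsq r (by tauto)) ?_
    · rw [hsu]; exact pow_mem (Subgroup.mem_zpowers u) 12
    · rcases hr with rfl | rfl <;> norm_num
    · rcases hr with rfl | rfl <;> norm_num
    · rcases hr with rfl | rfl <;> norm_num
    · rcases hr with rfl | rfl <;> norm_num
    · rw [hct]
      rcases hr with rfl | rfl <;> norm_num
  have hpp : p.Prime := by rcases hp with rfl | rfl | rfl | rfl | rfl <;> norm_num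
  have : Fact p.Prime := ⟨hpp⟩
  have : Fact (Nat.Prime 29) := ⟨h29⟩
  have key : ∀ r : ℕ, r.Prime → ¬ r ∣ 2 ^ 25 * 4157776806543360000 * 28 →
      ¬ r ∣ Nat.card (centralizer ({u} : Set MG)) →
      ¬ r ^ 1 ∣ Nat.card (centralizer ({s * s} : Set MG)) * ((29 - 1) * Nat.card (centralizer ({u} : Set MG))) := by
    intro r hr h1 h2 h
    rw [pow_one, hct, ← mul_assoc] at h
    rcases hr.dvd_mul.1 h with h | h
    · exact h1 h
    · exact h2 h
  rcases hp with rfl | rfl | rfl | rfl | rfl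
  · refine Sing.BD.of_sylow_inverted (by norm_num) (hsq 29 (by tauto)) hu ht hinv hodd (k := 11) ?_ ?_
    · rw [hidx]; norm_num
    · rw [hct]
      intro h
      apply h9
      have h1 : 3 ^ 11 ∣ 3 ^ 9 * (2 ^ 25 * 211236945920000 * 28 * Nat.card (centralizer ({u} : Set MG))) := by
        refine h.trans (dvd_of_eq ?_)
        ring_nf
      have h2 : 3 ^ 2 ∣ 2 ^ 25 * 211236945920000 * 28 * Nat.card (centralizer ({u} : Set MG)) := by
        rw [show 11 = 9 + 2 from rfl, pow_add] at h1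
        exact Nat.dvd_of_mul_dvd_mul_left (by norm_num) h1
      have h3' : Nat.Coprime (3 ^ 2) (2 ^ 25 * 211236945920000 * 28) := by norm_num
      exact h3'.dvd_of_dvd_mul_left h2
  · refine Sing.BD.of_sylow_inverted (by norm_num) (hsq 29 (by tauto)) hu ht hinv hodd (k := 5) ?_ ?_
    · rw [hidx]; norm_num
    · rw [hct]
      intro h
      apply h5
      have h1 : 5 ^ 5 ∣ 5 ^ 4 * (2 ^ 25 * 6652442890469376 * 28 * Nat.card (centralizer ({u} : Set MG))) := by
        refine h.trans (dvd_of_eq ?_)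
        ring_nf
      have h2 : 5 ∣ 2 ^ 25 * 6652442890469376 * 28 * Nat.card (centralizer ({u} : Set MG)) := by
        rw [show 5 ^ 5 = 5 ^ 4 * 5 from rfl] at h1
        exact Nat.dvd_of_mul_dvd_mul_left (by norm_num) h1
      have h3' : Nat.Coprime 5 (2 ^ 25 * 6652442890469376 * 28) := by norm_num
      exact h3'.dvd_of_dvd_mul_left h2
  · refine Sing.BD.of_sylow_inverted (by norm_num) (hsq 29 (by tauto)) hu ht hinv hodd (k := 1) ?_
      (key _ (by norm_num) (by norm_num) h17)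
    rw [hidx]; norm_num
  · refine Sing.BD.of_sylow_inverted (by norm_num) (hsq 29 (by tauto)) hu ht hinv hodd (k := 1) ?_
      (key _ (by norm_num) (by norm_num) (hr _ (by tauto)))
    rw [hidx]; norm_num
  · refine Sing.BD.of_sylow_inverted (by norm_num) (hsq 29 (by tauto)) hu ht hinv hodd (k := 1) ?_
      (key _ (by norm_num) (by norm_num) (hr _ (by tauto)))
    rw [hidx]; norm_num

/-- **`p = 2`** -/
theorem row_two : H133.PB.Row 2 MG := by
  have := finite
  obtain ⟨x, u, s, hx, hu, hs4, hsu, hself⟩ := exists_data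
  have hu29 : u ^ 29 = 1 := by rw [← hu]; exact pow_orderOf_eq_one u
  have hinv : s * s * u * (s * s)⁻¹ = u⁻¹ := by
    calc s * s * u * (s * s)⁻¹ = s * (s * u * s⁻¹) * s⁻¹ := by group
      _ = s * u ^ 12 * s⁻¹ := by rw [hsu]
      _ = (s * u * s⁻¹) ^ 12 := by rw [conj_pow]
      _ = u ^ 144 := by rw [hsu, ← pow_mul]
      _ = (u ^ 29) ^ 5 * u⁻¹ := by group
      _ = u⁻¹ := by rw [hu29]; group
  have : Fact (Nat.Prime 29) := ⟨by norm_num⟩
  refine H133.PB.Row.of_real_odd (q := 29) (g := u) ⟨1, by rw [hu, pow_one]⟩ ?_ (isConj_iff.2 ⟨s * s, hinv⟩) (odd_cent hu)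
  rintro rfl
  rw [orderOf_one] at hu
  norm_num at hu

end Cfsg.Agent.H626.MRow.TwentyNine
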