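import Cfsg.Agent.H709.PB.Guide
import Cfsg.Agent.H419.Spor.Monster

/-!
# S4826, the Monster, `p = 47, 59, 71`: the real character of degree `196883`
-/

set_option autoImplicit false

namespace Cfsg.Agent.H626.MRow

open Cfsg Cfsg.Agent.H133.PB Cfsg.Agent.H419.MinDeg Cfsg.Agent.H419.Spor.Monster

theorem exists_real_irr : ∃ χ : IrrCharacter Spor.Monster, charDegree (χ : Spor.Monster → ℂ) = 196883 ∧
    ∀ g, ((χ : Spor.Monster → ℂ) g).im = 0 := by
  have := finite_m
  have : Nontrivial Spor.Monster := by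
    rw [← Finite.one_lt_card_iff_nontrivial, card_m]
    norm_num
  obtain ⟨ρ, hρ, -⟩ := Cfsg.Agent.S5540.result
  have hmin : ∀ (n : ℕ) (σ : Representation ℂ Spor.Monster (Fin n → ℂ)), n < 196883 → ∀ g, σ g = 1 := by
    intro n σ hn g
    by_contra hg
    have h1 := Cfsg.Agent.H847.MonDeg.bound σ ⟨g, hg⟩
    rw [Module.finrank_fin_fun] at h1
    omega
  have h1 : (cplx ρ).character 1 = ((196883 : ℕ) : ℂ) := by
    rw [Representation.char_one]
    simp
  obtain ⟨x, hx⟩ := exists_ne (1 : Spor.Monster)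
  refine ⟨⟨(cplx ρ).character, irr_of_min hmin ⟨196883, cplx ρ, rfl⟩ h1 (x := x) fun h => ?_⟩, ?_, ?_⟩
  · have h2 := (Cfsg.Agent.S0139.result (cplx ρ) x).1 (by rw [h, Module.finrank_fin_fun])
    have h3 : cplx ρ x = 1 := h2
    apply hx
    apply hρ
    rw [cplx_eq_one h3, map_one]
  · exact Cfsg.Agent.Blocks.Basic.charDegree_of_eq h1
  · intro g
    show (LinearMap.trace ℂ _ (Matrix.toLin' ((LinearMap.toMatrix' (ρ g)).map (algebraMap ℝ ℂ)))).im = 0
    rw [Matrix.trace_toLin'_eq]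
    have h4 : ((LinearMap.toMatrix' (ρ g)).map (algebraMap ℝ ℂ)).trace =
        algebraMap ℝ ℂ ((LinearMap.toMatrix' (ρ g)).trace) := by
      simp [Matrix.trace]
    rw [h4]
    exact Complex.ofReal_im _

/-- `p = 47, 59, 71` -/
theorem bd_two {p : ℕ} (hp : p ∣ 196883) : BD p 2 Spor.Monster := by
  have := finite_m
  obtain ⟨χ, h1, h2⟩ := exists_real_irr
  exact BD.of_real χ h2 (by rw [h1]; decide) (by rw [h1]; exact hp)

end Cfsg.Agent.H626.MRow
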