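import Cfsg.Agent.MonsterX.InstanceFinal
import Cfsg.Agent.MonsterX.MainTrans

/-!
# The products of order 5 of two involutions of the class `2A` of the Monster

`five_iff`: `5` divides the order of `t_x t_{a₀}` if and only if the inner product of the axes is `3 / 16`.
-/

set_option autoImplicit false
set_option maxRecDepth 100000

namespace Cfsg.Agent.H626.MRow.Ord

open Cfsg.Agent.MonsterX.Model Cfsg.Agent.MonsterX.CertPairs

section

variable {W : Type} [AddCommGroup W] [Module ℚ W] {M : MData W} (T : PairTab M)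

/-- The pairs `(k a₀, d j)` from the pairs `(a₀, y j i)`. -/
theorem of_pairs (hC : ∀ g ∈ M.C, ∀ x y, M.F (g x) (g y) = M.F x y)
    (ht : ∀ g ∈ M.G, g M.a₀ = M.a₀ → g * M.t₀ = M.t₀ * g)
    (w : M.J → (W ≃ₗ[ℚ] W)) (hw : ∀ j, w j ∈ M.G) (hwd : ∀ j, w j M.a₀ = M.d j)
    (Q : ℚ → (W ≃ₗ[ℚ] W) → Prop) (hQ : ∀ c x g, Q c x → Q c (g * x * g⁻¹))
    (h : ∀ j i, Q (M.F M.a₀ (T.y j i)) (M.t₀ * ((T.u j i * w j) * M.t₀ * (T.u j i * w j)⁻¹))) :
    ∀ j, ∀ k ∈ M.C, Q (M.F (k M.a₀) (M.d j)) ((k * M.t₀ * k⁻¹) * (w j * M.t₀ * (w j)⁻¹)) := by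
  intro j k hk
  have hCG : M.C ≤ M.G := fun x hx => Subgroup.subset_closure (Or.inl hx)
  obtain ⟨i, l, hl, hd, e⟩ := T.cov j (k M.a₀) ⟨k, hk, rfl⟩
  have h0 := h j i
  set u := T.u j i with hu
  have huC : u ∈ M.C := T.u_mem j i
  have h1 : k * M.t₀ * k⁻¹ = (l * u⁻¹) * M.t₀ * (l * u⁻¹)⁻¹ :=
    conj_t₀ (fun g hg => ht g (hCG hg)) hk (M.C.mul_mem hl (M.C.inv_mem huC)) e
  -- `l` centralises the involution of `d j`
  have h2 : ((w j)⁻¹ * l * w j) * M.t₀ = M.t₀ * ((w j)⁻¹ * l * w j) := by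
    refine ht _ (M.G.mul_mem (M.G.mul_mem (M.G.inv_mem (hw j)) (hCG hl)) (hw j)) ?_
    show (w j)⁻¹ (l (w j M.a₀)) = M.a₀
    rw [hwd, hd, ← hwd]
    exact (w j).symm_apply_apply _
  have h3 : w j * M.t₀ * (w j)⁻¹ = (l * u⁻¹) * ((u * w j) * M.t₀ * (u * w j)⁻¹) * (l * u⁻¹)⁻¹ := by
    calc w j * M.t₀ * (w j)⁻¹ = w j * (M.t₀ * ((w j)⁻¹ * l * w j)) * ((w j)⁻¹ * l * w j)⁻¹ * (w j)⁻¹ := by group
      _ = w j * (((w j)⁻¹ * l * w j) * M.t₀) * ((w j)⁻¹ * l * w j)⁻¹ * (w j)⁻¹ := by rw [h2]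
      _ = _ := by group
  have h4 : (k * M.t₀ * k⁻¹) * (w j * M.t₀ * (w j)⁻¹) =
      (l * u⁻¹) * (M.t₀ * ((u * w j) * M.t₀ * (u * w j)⁻¹)) * (l * u⁻¹)⁻¹ := by
    rw [h1, h3]; group
  rw [h4, e, T.F_eq hC j i hl hd]
  exact hQ _ _ _ h0

end

open Cfsg.Agent.MonsterX Cfsg.Agent.MonsterX.InstData Cfsg.Agent.MonsterX.OrdLe Cfsg.Agent.MonsterX.OrdChk
open Cfsg.Agent.MonsterX.FieldsP Cfsg.Agent.MonsterX.PairZero Cfsg.Agent.MonsterX.Conc Cfsg.Agent.MonsterX.Space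
open Cfsg.Agent.MonsterX.CertUTab

/-- The property of the pairs. -/
def QF {Γ : Type*} [Group Γ] (c : ℚ) (x : Γ) : Prop :=
  (c = 3 / 16 → x ^ 5 = 1) ∧ (c ≠ 3 / 16 → ∃ n : ℕ, n ∣ 12 ∧ x ^ n = 1)

theorem QF.conj {Γ : Type*} [Group Γ] {c : ℚ} {x : Γ} (g : Γ) (h : QF c x) : QF c (g * x * g⁻¹) := by
  refine ⟨fun hc => ?_, fun hc => ?_⟩
  · rw [conj_pow, h.1 hc]; group
  · obtain ⟨n, hn, hx⟩ := h.2 hc
    exact ⟨n, hn, by rw [conj_pow, hx]; group⟩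

theorem tab5 : ∀ j < 12, ∀ m < nr j, ∀ b : Bool,
    ((OrdLe.tabs.getD j []).any fun t => t.any fun p => p.2 == wd j m b &&
      (Nat.ble 4 p.1 == decide (vb j m b = 48))) = true := by decide +kernel

theorem bnd_lt {k : ℕ} (h : ¬ 4 ≤ k) : bnd k ∣ 12 := by
  have : k < 4 := by omega
  interval_cases k <;> decide

theorem bnd_ge {k : ℕ} (h : 4 ≤ k) : bnd k = 5 := by
  unfold bnd
  split <;> first | rfl | omega

theorem pair_QF (hI : OrdChk.Inv) (hst : ∀ g ∈ M.G, g M.a₀ = M.a₀ → g * M.t₀ = M.t₀ * g) {j m : ℕ} (hj : j < 12)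
    (hm : m < nr j) (b : Bool) {c : ℚ} (hc : c = (vb j m b : ℚ) / 2 ^ 8) :
    QF c (M.t₀ * ((W (wd j m b) * W (bj j)) * M.t₀ * (W (wd j m b) * W (bj j))⁻¹)) := by
  have h := tab5 j hj m hm b
  rw [List.any_eq_true] at h
  obtain ⟨t, ht, h⟩ := h
  rw [List.any_eq_true] at h
  obtain ⟨p, hp, h⟩ := h
  rw [Bool.and_eq_true] at h
  obtain ⟨h1, h2⟩ := h
  have h1' : p.2 = wd j m b := eq_of_beq h1
  have h2' : Nat.ble 4 p.1 = decide (vb j m b = 48) := eq_of_beq h2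
  have hk : pairC p.1 (bj j ++ p.2) = true := by
    rw [bj_eq j hj]
    exact allP_spec (tabs_ok j hj t ht) p hp
  have hl : Lt (bj j ++ p.2) := by
    intro n hn
    rcases List.mem_append.1 hn with hn | hn
    · exact OrdLe.lt_bj j hj n hn
    · exact lt_tab j hj t ht p hp n hn
  have htG : M.t₀ ∈ M.G := W_mem_G hI (w := [13, 14]) (by intro n hn; simp at hn; omega)
  have h3 := pairC_sound hI OrdInv.t₀_sq hst htG hl (W_mem_G hI hl) hk
  rw [W_append, h1'] at h3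
  by_cases h48 : vb j m b = 48
  · have h5 : 4 ≤ p.1 := Nat.le_of_ble_eq_true (by rw [h2', decide_eq_true h48])
    rw [bnd_ge h5] at h3
    refine ⟨fun _ => h3, fun hne => absurd ?_ hne⟩
    rw [hc, h48]
    norm_num
  · have h5 : ¬ 4 ≤ p.1 := by
      intro h6
      rw [Nat.ble_eq_true_of_le h6, decide_eq_false h48] at h2'
      exact absurd h2' (by decide)
    refine ⟨fun he => absurd ?_ h48, fun _ => ⟨bnd p.1, bnd_lt h5, h3⟩⟩
    rw [hc] at he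
    have h6 : (vb j m b : ℚ) = 48 := by
      rw [div_eq_iff (by norm_num)] at he
      rw [he]; norm_num
    exact_mod_cast h6

/-- **All pairs.** -/
theorem all (j : Fin 12) : ∀ k ∈ M.C, QF (M.F (k M.a₀) (M.d j)) ((k * M.t₀ * k⁻¹) * (W (bj j.1) * M.t₀ * (W (bj j.1))⁻¹)) := by
  have hI : OrdChk.Inv := Instance.inv
  have hst : ∀ g ∈ M.G, g M.a₀ = M.a₀ → g * M.t₀ = M.t₀ * g := fun _ hg h =>
    (MainTrans.comm_iff Instance.mGroup Instance.mRep Instance.mLat InstanceFinal.mOrbit Instance.mTrans hg).2 h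
  refine of_pairs Instance.tab C_isom hst (fun j : Fin 12 => W (bj j.1)) ?_ ?_ QF (fun c x g h => h.conj g) ?_ j
  · intro j
    exact W_mem_G hI fun n hn => OrdLe.lt_bj _ (show Fin 12 from j).2 n hn
  · intro j
    exact (M_d' j).symm
  · intro j i
    change Fin 12 at j
    rw [Instance.words.eq j i]
    exact pair_QF hI hst j.2 (Instance.words.lt j i) _ (FieldsP.Fa₀ Instance.words j i)

end Cfsg.Agent.H626.MRow.Ord
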