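import Cfsg.Agent.H626.MRow.Pairs
import Cfsg.Agent.H626.MRow.Ord
import Cfsg.Agent.H709.PB.Guide
import Cfsg.Agent.BpSpor.MBigEleven

/-!
# S4826, the Monster, `p = 7, 11, 13, 29, 41, 59, 71`: the number of pairs of `2A`-involutions with product of order 5
-/

set_option autoImplicit false

namespace Cfsg.Agent.H626.MRow.Count

open Cfsg Cfsg.Agent.MonsterX Cfsg.Agent.MonsterX.Model Cfsg.Agent.MonsterX.InstData Cfsg.Agent.MonsterX.MainPack
open Cfsg.Agent.MonsterX.MainTrans Cfsg.Agent.MonsterX.MainBasic Cfsg.Agent.MonsterX.Conc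
open Cfsg.Agent.H626.MRow.Ord
open Subgroup (centralizer mem_centralizer_singleton_iff)

abbrev MG : Type := ↥InstData.M.G

/-- the involution `t₀` -/
noncomputable def t : MG := tG Instance.mGroup Instance.mRep

theorem t_coe : (t : Space.V ≃ₗ[ℚ] Space.V) = M.t₀ := rfl

theorem t_sq : t * t = 1 := Subtype.ext Instance.mRep.t₀_sq

theorem F_isom {g : Space.V ≃ₗ[ℚ] Space.V} (hg : g ∈ M.G) (x y : Space.V) : M.F (g x) (g y) = M.F x y :=
  G_isom InstanceFinal.mOrbit Instance.mRep hg x y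

/-- the property `QF` for all pairs -/
theorem qf (g : MG) : QF (M.F M.a₀ ((g : Space.V ≃ₗ[ℚ] Space.V) M.a₀)) (t * (g * t * g⁻¹)) := by
  obtain ⟨j, h, hh, h1⟩ := G_X InstanceFinal.mOrbit g.2 (S_sub_X InstanceFinal.mOrbit a₀_mem_S)
  have hhG := C_le hh
  have hwj : W (bj (show Fin 12 from j).1) ∈ M.G :=
    OrdLe.W_mem_G Instance.inv fun n hn => OrdLe.lt_bj _ (show Fin 12 from j).2 n hn
  set wj := W (bj (show Fin 12 from j).1) with hw
  have hwd : wj M.a₀ = M.d j := (M_d' (show Fin 12 from j)).symm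
  have h2 := all (show Fin 12 from j) h⁻¹ (M.C.inv_mem hh)
  have e1 := conj_eq Instance.mGroup Instance.mRep Instance.mLat InstanceFinal.mOrbit Instance.mTrans g.2
    (M.G.mul_mem hhG hwj) (by
      show (g : Space.V ≃ₗ[ℚ] Space.V) M.a₀ = h (wj M.a₀)
      rw [hwd, h1])
  have e2 : M.F (h⁻¹ M.a₀) (M.d j) = M.F M.a₀ ((g : Space.V ≃ₗ[ℚ] Space.V) M.a₀) := by
    rw [h1, ← F_isom hhG (h⁻¹ M.a₀) (M.d j)]
    congr 1
    exact congrArg _ (h.apply_symm_apply M.a₀)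
  have e3 : (h⁻¹ * M.t₀ * h⁻¹⁻¹) * (wj * M.t₀ * wj⁻¹) =
      h⁻¹ * (M.t₀ * ((g : Space.V ≃ₗ[ℚ] Space.V) * M.t₀ * (g : Space.V ≃ₗ[ℚ] Space.V)⁻¹)) * h⁻¹⁻¹ := by
    rw [e1]; group
  rw [show M.F (h⁻¹ M.a₀) (M.d (show Fin 12 from j)) = M.F (h⁻¹ M.a₀) (M.d j) from rfl, e2] at h2
  have h3 : QF (M.F M.a₀ ((g : Space.V ≃ₗ[ℚ] Space.V) M.a₀))
      (M.t₀ * ((g : Space.V ≃ₗ[ℚ] Space.V) * M.t₀ * (g : Space.V ≃ₗ[ℚ] Space.V)⁻¹)) := by
    have h4 : QF (M.F M.a₀ ((g : Space.V ≃ₗ[ℚ] Space.V) M.a₀)) ((h⁻¹ * M.t₀ * h⁻¹⁻¹) * (wj * M.t₀ * wj⁻¹)) := h2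
    rw [e3] at h4
    have h5 := h4.conj h
    have e4 : h * (h⁻¹ * (M.t₀ * ((g : Space.V ≃ₗ[ℚ] Space.V) * M.t₀ * (g : Space.V ≃ₗ[ℚ] Space.V)⁻¹)) * h⁻¹⁻¹) * h⁻¹ =
        M.t₀ * ((g : Space.V ≃ₗ[ℚ] Space.V) * M.t₀ * (g : Space.V ≃ₗ[ℚ] Space.V)⁻¹) := by group
    rwa [e4] at h5
  refine ⟨fun hc => Subtype.ext ?_, fun hc => ?_⟩
  · exact h3.1 hc
  · obtain ⟨n, hn, hx⟩ := h3.2 hc
    exact ⟨n, hn, Subtype.ext hx⟩

/-- **`5` divides the order of the product if and only if the inner product is `3 / 16`.** -/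
theorem five_iff (g : MG) : 5 ∣ orderOf ((g * t * g⁻¹) * t) ↔ M.F M.a₀ ((g : Space.V ≃ₗ[ℚ] Space.V) M.a₀) = 3 / 16 := by
  have ho : orderOf ((g * t * g⁻¹) * t) = orderOf (t * (g * t * g⁻¹)) := by
    have h1 : (g * t * g⁻¹) * t = t⁻¹ * (t * (g * t * g⁻¹)) * t := by group
    rw [h1]
    have h2 := MulEquiv.orderOf_eq (MulAut.conj t⁻¹) (t * (g * t * g⁻¹))
    rw [MulAut.conj_apply, inv_inv] at h2
    exact h2
  rw [ho]
  have hq := qf g
  constructor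
  · intro h5
    by_contra hc
    obtain ⟨n, hn, hx⟩ := hq.2 hc
    have h1 := (h5.trans (orderOf_dvd_of_pow_eq_one hx)).trans hn
    norm_num at h1
  · intro hc
    have h1 := hq.1 hc
    have hne : t * (g * t * g⁻¹) ≠ 1 := by
      intro h2
      have h3 : g * t * g⁻¹ = t := by
        calc g * t * g⁻¹ = t * (t * (g * t * g⁻¹)) := by rw [← mul_assoc, t_sq, one_mul]
          _ = t := by rw [h2, mul_one]
      have h4 := conj_inj Instance.mGroup Instance.mRep Instance.mLat InstanceFinal.mOrbit Instance.mTrans g.2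
        M.G.one_mem (by
          have h5 := congrArg (Subtype.val : MG → _) h3
          show (g : Space.V ≃ₗ[ℚ] Space.V) * M.t₀ * (g : Space.V ≃ₗ[ℚ] Space.V)⁻¹ = 1 * M.t₀ * 1⁻¹
          rw [one_mul, inv_one, mul_one]
          exact h5)
      rw [h4] at hc
      have h6 : M.F M.a₀ M.a₀ = 8 := Instance.mLat.F_a₀
      rw [show (1 : Space.V ≃ₗ[ℚ] Space.V) M.a₀ = M.a₀ from rfl, h6] at hc
      norm_num at hc
    have : Fact (Nat.Prime 5) := ⟨Nat.prime_five⟩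
    rw [orderOf_eq_prime h1 hne]

/-- **The number of `2A`-involutions `b` with `5 ∣ o(b t)`.** -/
theorem card_five : Nat.card {b : MG // IsConj t b ∧ 5 ∣ orderOf (b * t)} = 30434513446055706624 := by
  rw [← Pairs.card_five]
  have hc : ∀ b : {b : MG // IsConj t b ∧ 5 ∣ orderOf (b * t)}, ∃ c : MG, c * t * c⁻¹ = b := fun b =>
    isConj_iff.1 b.2.1
  choose c hc using hc
  have key : ∀ g h : MG, g * t * g⁻¹ = h * t * h⁻¹ →
      (g : Space.V ≃ₗ[ℚ] Space.V) M.a₀ = (h : Space.V ≃ₗ[ℚ] Space.V) M.a₀ := fun g h e =>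
    conj_inj Instance.mGroup Instance.mRep Instance.mLat InstanceFinal.mOrbit Instance.mTrans g.2 h.2
      (congrArg (Subtype.val : MG → _) e)
  refine Nat.card_congr (Equiv.ofBijective (fun b => ⟨(c b : Space.V ≃ₗ[ℚ] Space.V) M.a₀, ?_, ?_⟩) ⟨?_, ?_⟩)
  · exact G_X InstanceFinal.mOrbit (c b).2 (S_sub_X InstanceFinal.mOrbit a₀_mem_S)
  · rw [← five_iff, hc]
    exact b.2.2
  · intro b b' h
    have h1 : (c b : Space.V ≃ₗ[ℚ] Space.V) M.a₀ = (c b' : Space.V ≃ₗ[ℚ] Space.V) M.a₀ := congrArg Subtype.val h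
    have h2 := conj_eq Instance.mGroup Instance.mRep Instance.mLat InstanceFinal.mOrbit Instance.mTrans (c b).2
      (c b').2 h1
    apply Subtype.ext
    rw [← hc b, ← hc b']
    exact Subtype.ext h2
  · rintro ⟨x, hx, hF⟩
    obtain ⟨g, hg, rfl⟩ := X_eq_orbit InstanceFinal.mOrbit hx
    have h5 := (five_iff ⟨g, hg⟩).2 hF
    refine ⟨⟨(⟨g, hg⟩ : MG) * t * (⟨g, hg⟩ : MG)⁻¹, isConj_iff.2 ⟨_, rfl⟩, h5⟩, ?_⟩
    apply Subtype.ext
    exact key _ ⟨g, hg⟩ (hc _)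

theorem index_t : (centralizer ({t} : Set MG)).index = 97239461142009186000 := by
  have h1 := (centralizer ({t} : Set MG)).card_mul_index
  have h2 : Nat.card ↥(centralizer ({t} : Set MG)) = 2 * 4154781481226426191177580544000000 :=
    card_cent_t Instance.mGroup Instance.mRep Instance.mLat InstanceFinal.mOrbit Instance.mTrans
  rw [h2, BpSpor.MBigModel.card_M] at h1
  omega

theorem bd_five {p : ℕ} [Fact p.Prime] (hp : p ≠ 5) {k : ℕ} (hk : p ^ k ∣ 97239461142009186000)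
    (hk' : ¬ p ^ k ∣ 30434513446055706624) : Cfsg.Agent.H133.PB.BD p 5 MG := by
  have := BpSpor.MBigModel.finite
  have : Fact (Nat.Prime 5) := ⟨Nat.prime_five⟩
  refine H709.PB.BD.of_singular_count (Ne.symm hp) t t (k := k) (by rw [index_t]; exact hk) ?_
  rw [card_five]
  exact hk'

/-- `p = 7, 11, 13, 29, 41, 59, 71` -/
theorem bd {p : ℕ} (hp : p = 7 ∨ p = 11 ∨ p = 13 ∨ p = 29 ∨ p = 41 ∨ p = 59 ∨ p = 71) :
    Cfsg.Agent.H133.PB.BD p 5 MG := by
  rcases hp with rfl | rfl | rfl | rfl | rfl | rfl | rfl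
  · have : Fact (Nat.Prime 7) := ⟨by norm_num⟩
    exact bd_five (by norm_num) (k := 2) (by norm_num) (by norm_num)
  · have : Fact (Nat.Prime 11) := ⟨by norm_num⟩
    exact bd_five (by norm_num) (k := 1) (by norm_num) (by norm_num)
  · have : Fact (Nat.Prime 13) := ⟨by norm_num⟩
    exact bd_five (by norm_num) (k := 2) (by norm_num) (by norm_num)
  · have : Fact (Nat.Prime 29) := ⟨by norm_num⟩
    exact bd_five (by norm_num) (k := 1) (by norm_num) (by norm_num)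
  · have : Fact (Nat.Prime 41) := ⟨by norm_num⟩
    exact bd_five (by norm_num) (k := 1) (by norm_num) (by norm_num)
  · have : Fact (Nat.Prime 59) := ⟨by norm_num⟩
    exact bd_five (by norm_num) (k := 1) (by norm_num) (by norm_num)
  · have : Fact (Nat.Prime 71) := ⟨by norm_num⟩
    exact bd_five (by norm_num) (k := 1) (by norm_num) (by norm_num)

end Cfsg.Agent.H626.MRow.Count
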