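import Cfsg.Agent.H626.MRow.Row
import Cfsg.Agent.H693.PB.MFiftyNine

/-!
# S4826, the row of the Monster
-/

set_option autoImplicit false

namespace Cfsg.Agent.H626.MRow

open Cfsg
open Cfsg.Agent.BpSpor.MBigModel
open Cfsg.Agent.H133.PB (Row BD)

theorem row_twenty_three (hK : Cfsg.Agent.H995.CopEngine.AllKnown.{0}) : Row 23 MG := by
  obtain ⟨f⟩ := Cfsg.Agent.MonsterP.Equiv.equiv
  exact Row.intro (by norm_num : (59 : ℕ).Prime) (by norm_num) (by rw [card_M]; norm_num)
    ((H693.PB.MFiftyNine.bd_59 hK (p := 23) (by norm_num)).of_equiv f.symm)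

/-- **The row of the Monster.** -/
theorem row_m (hK : Cfsg.Agent.H995.CopEngine.AllKnown.{0}) {S : Type*} [Group S] (h : Cfsg.Spor.IsoM S) {p : ℕ}
    (hp : p.Prime) (hd : p ∣ Nat.card S) : Row p S :=
  row_of (row_twenty_three hK) h hp hd

end Cfsg.Agent.H626.MRow
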