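import Cfsg.Agent.H626.MRow.LaneFive
import Cfsg.Agent.MonsterX.InstanceFinal
import Cfsg.Agent.MonsterX.MainOrder

/-!
# The number of axes with inner product `3 / 16` with the base axis

`card_five`: there are `30434513446055706624 = 2 ^ 28 * 3 ^ 7 * 7 * 13 * 17 * 23 * 31 * 47` such axes.
-/

set_option autoImplicit false

namespace Cfsg.Agent.H626.MRow.Pairs

open Cfsg.Agent.MonsterX.CertOrb Cfsg.Agent.MonsterX.Model Cfsg.Agent.MonsterX.CertOrbModel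

section

variable {W : Type} [AddCommGroup W] [Module ℚ W]
variable {M : MData W} {ρ : Type*} {D D₀ : Subgroup (W ≃ₗ[ℚ] W)} {e : W ≃ₗ[ℚ] W} {v : ρ → W}
  {jof : ρ → M.J} {tp tm : ρ → ρ}

/-- Pairs (element of the base orbit, axis) with inner product `c`. -/
theorem card_pairs (h : OrbTable M D D₀ e v jof tp tm) [Fintype M.J] [Finite M.C]
    (hF : ∀ g ∈ M.C, ∀ x y, M.F (g x) (g y) = M.F x y) (c : ℚ)
    (A B : M.J → ℕ) (hA : ∀ j, Nat.card (MulAction.orbit M.C (M.d j)) = A j)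
    (hB : ∀ j, {s | s ∈ M.S ∧ M.F s (M.d j) = c}.ncard = B j) :
    {p : W × W | p.1 ∈ M.S ∧ p.2 ∈ M.X ∧ M.F p.1 p.2 = c}.ncard = ∑ j, A j * B j := by
  classical
  have hfin : ∀ j, Finite (MulAction.orbit M.C (M.d j)) := fun j => finite_orbit M.C _
  have hSfin : Finite M.S := by
    have := finite_orbit M.C M.a₀
    refine Finite.of_injective (fun x : M.S => (⟨x, ?_⟩ : MulAction.orbit M.C M.a₀)) ?_
    · obtain ⟨g, hg, hx⟩ := x.2
      exact ⟨⟨g, hg⟩, hx.symm⟩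
    · intro x y e
      exact Subtype.ext (congrArg (fun z : MulAction.orbit M.C M.a₀ => (z : W)) e)
  have hSC : ∀ g ∈ M.C, ∀ s ∈ M.S, g s ∈ M.S := by
    rintro g hg _ ⟨k, hk, rfl⟩
    exact ⟨g * k, M.C.mul_mem hg hk, rfl⟩
  have hidx : ∀ x : M.X, ∃ j, (x : W) ∈ MulAction.orbit M.C (M.d j) := fun x => (mem_X_iff _).1 x.2
  choose idx hidx using hidx
  have hidx' : ∀ (x : M.X) j, (x : W) ∈ MulAction.orbit M.C (M.d j) → idx x = j := by
    intro x j hj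
    exact h.disj_orbit _ _ (mem_orbit_self_of (hidx x) hj)
  have hc : ∀ x : M.X, ∃ g : M.C, g • M.d (idx x) = (x : W) := fun x => hidx x
  choose g hg using hc
  have hmem : ∀ j (x : MulAction.orbit M.C (M.d j)), (x : W) ∈ M.X :=
    fun j x => (mem_X_iff _).2 ⟨j, x.2⟩
  have hinv : ∀ (x : M.X) (w : W), M.F (((g x)⁻¹ : M.C) • w) (M.d (idx x)) = M.F w x := by
    intro x w
    have h2 := hF (g x : W ≃ₗ[ℚ] W) (g x).2 (((g x)⁻¹ : M.C) • w) (M.d (idx x))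
    rw [← h2]
    change M.F ((g x : M.C) • ((g x)⁻¹ : M.C) • w) ((g x : M.C) • M.d (idx x)) = _
    rw [smul_inv_smul, hg x]
  have e2 : Nat.card {p : W × W | p.1 ∈ M.S ∧ p.2 ∈ M.X ∧ M.F p.1 p.2 = c} =
      Nat.card (Σ j, MulAction.orbit M.C (M.d j) × {s // s ∈ M.S ∧ M.F s (M.d j) = c}) := by
    refine Nat.card_congr ((Equiv.trans (β := Σ x : M.X, {s // s ∈ M.S ∧ M.F s x = c}) ?_
      (Equiv.trans (β := Σ x : M.X, {s // s ∈ M.S ∧ M.F s (M.d (idx x)) = c}) ?_ ?_)))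
    · exact ⟨fun p => ⟨⟨p.1.2, p.2.2.1⟩, ⟨p.1.1, p.2.1, p.2.2.2⟩⟩,
        fun q => ⟨(q.2.1, q.1.1), q.2.2.1, q.1.2, q.2.2.2⟩, fun p => rfl, fun q => rfl⟩
    · refine Equiv.sigmaCongrRight fun x => ?_
      refine ⟨fun s => ⟨((g x)⁻¹ : M.C) • s.1, hSC _ ((g x)⁻¹ : M.C).2 _ s.2.1, ?_⟩,
        fun s => ⟨(g x : M.C) • s.1, hSC _ (g x).2 _ s.2.1, ?_⟩, ?_, ?_⟩
      · rw [hinv x]
        exact s.2.2
      · rw [← hinv x, inv_smul_smul]
        exact s.2.2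
      · intro s
        simp
      · intro s
        simp
    · refine ⟨fun p => ⟨idx p.1, ⟨(p.1 : W), hidx p.1⟩, p.2⟩,
        fun q => ⟨⟨q.2.1, hmem _ _⟩, ⟨q.2.2.1, q.2.2.2.1, ?_⟩⟩, ?_, ?_⟩
      · have := hidx' ⟨q.2.1, hmem _ _⟩ q.1 q.2.1.2
        rw [this]
        exact q.2.2.2.2
      · rintro ⟨x, s⟩
        rfl
      · rintro ⟨i, ⟨x, hx⟩, ⟨s, hs⟩⟩
        have hi := hidx' ⟨x, (mem_X_iff _).2 ⟨i, hx⟩⟩ i hx
        have aux : ∀ j (h1 : x ∈ MulAction.orbit M.C (M.d j)) (h2 : s ∈ M.S ∧ M.F s (M.d j) = c), j = i →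
            (⟨j, (⟨x, h1⟩, ⟨s, h2⟩)⟩ :
              Σ i, MulAction.orbit M.C (M.d i) × {s // s ∈ M.S ∧ M.F s (M.d i) = c}) =
              ⟨i, (⟨x, hx⟩, ⟨s, hs⟩)⟩ := by
          rintro j h1 h2 rfl
          rfl
        exact aux _ _ _ hi
  have : ∀ i, Finite {s // s ∈ M.S ∧ M.F s (M.d i) = c} := fun i =>
    Finite.of_injective (fun x : {s // s ∈ M.S ∧ M.F s (M.d i) = c} => (⟨x, x.2.1⟩ : M.S))
      (fun x y e => Subtype.ext (congrArg (fun z : M.S => (z : W)) e))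
  rw [← Nat.card_coe_set_eq, e2, Nat.card_sigma]
  refine Finset.sum_congr rfl fun i _ => ?_
  rw [Nat.card_prod, hA, ← hB, ← Nat.card_coe_set_eq]
  rfl

end

open Cfsg.Agent.MonsterX.InstData Cfsg.Agent.MonsterX.CertLenT Cfsg.Agent.MonsterX.CertVec
open Cfsg.Agent.MonsterX.Space Cfsg.Agent.MonsterX.MainBasic Cfsg.Agent.MonsterX.CertAsm
open Cfsg.Agent.MonsterX (OrbDone.finite_C OrbDone.U OrbDone.card_C KDone.mRep InstanceFinal.mOrbit)

/-- The table of `LaneFive.n5`. -/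
noncomputable def fiveT : List ℕ := [0, 0, 0, 57344, 61440, 41472, 59904, 65472, 59008, 53576, 62120, 61520]

theorem five_eq (j : Fin 12) : LaneFive.tab j = nth 0 fiveT j.1 := by
  fin_cases j <;> decide +kernel

theorem pairs_ok : Nat.beq (sumN (fun j => Nat.mul (nth 0 clsT j) (nth 0 fiveT j)) 12)
    (30434513446055706624 * 196560) = true := by decide +kernel

theorem sum_pairs : ∑ j : Fin 12, clen j * nth 0 fiveT j.1 = 30434513446055706624 * 196560 := by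
  have h := pairs_ok
  rw [Nat.beq_eq, sumN_eq] at h
  exact h

theorem card_pairs_five :
    {p : V × V | p.1 ∈ M.S ∧ p.2 ∈ M.X ∧ M.F p.1 p.2 = 3 / 16}.ncard = 30434513446055706624 * 196560 := by
  have := OrbDone.finite_C
  rw [card_pairs (Cfsg.Agent.MonsterX.CertAsm.table OrbDone.U) M_C_isom (3 / 16) clen (fun j => nth 0 fiveT (show Fin 12 from j).1)
    OrbDone.card_C fun j => (LaneFive.n5 j).trans (five_eq j)]
  exact sum_pairs

/-- **The number of axes with inner product `3 / 16` with the base axis.** -/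
theorem card_five : Nat.card {b // b ∈ M.X ∧ M.F M.a₀ b = 3 / 16} = 30434513446055706624 := by
  have hR := KDone.mRep
  have hO := InstanceFinal.mOrbit
  have e := MonsterX.MainOrder.card_pairs (G := M.G) (V := V) (M.C.subgroupOf M.G) (fun x y => M.F x y)
    (fun g x y => G_isom hO hR g.2 x y) M.X M.S M.a₀ (by
      ext x
      constructor
      · rintro ⟨k, hk, rfl⟩
        exact ⟨⟨⟨k, C_le hk⟩, hk⟩, rfl⟩
      · rintro ⟨⟨⟨k, hk⟩, hk'⟩, rfl⟩
        exact ⟨k, hk', rfl⟩) (fun k hk x hx => C_X hk hx) (3 / 16 : ℚ)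
  have h1 : Nat.card {p : V × V // p.1 ∈ M.S ∧ p.2 ∈ M.X ∧ M.F p.1 p.2 = 3 / 16} =
      30434513446055706624 * 196560 := by
    rw [← card_pairs_five, ← Nat.card_coe_set_eq]
    rfl
  have h2 : Nat.card M.S = 196560 := by rw [Nat.card_coe_set_eq, hR.S_card]
  rw [h1, h2] at e
  exact (Nat.eq_of_mul_eq_mul_right (by norm_num) e).symm

end Cfsg.Agent.H626.MRow.Pairs
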